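import Groth.Agent.Lib.Helper3.ArtFlat.Fam
import Groth.Agent.Lib.Helper1.SchFibInj

set_option autoImplicit false
universe u
open CategoryTheory Limits AlgebraicGeometry TopologicalSpace Opposite TensorProduct IsLocalRing

namespace Groth.Agent.H3.ArtFlat

open Groth.Agent.LD.QC Groth.Agent.H1.SchFlat

section Iso
variable {X S : Scheme.{u}}

lemma stalkFun_comp_apply {F₁ F₂ F₃ : X.Modules} (u : F₁ ⟶ F₂) (v : F₂ ⟶ F₃) (x : X)
    (m : F₁.presheaf.stalk x) : stalkFun v x (stalkFun u x m) = stalkFun (u ≫ v) x m := by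
  obtain ⟨W, hxW, t, rfl⟩ := TopCat.Presheaf.exists_germ_eq F₁.presheaf m
  rw [stalkFun_germ, stalkFun_germ, stalkFun_germ]
  rfl

lemma stalkFun_id_apply {F₁ : X.Modules} (x : X) (m : F₁.presheaf.stalk x) :
    stalkFun (𝟙 F₁) x m = m := by
  obtain ⟨W, hxW, t, rfl⟩ := TopCat.Presheaf.exists_germ_eq F₁.presheaf m
  rw [stalkFun_germ]
  rfl

/-- flatness over the base at a point is invariant under isomorphisms of modules. -/
theorem isFlatOverAt_of_iso (f : X ⟶ S) {M N : X.Modules} (e : M ≅ N) (x : X)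
    (h : FlatMod.IsFlatOverAt f M x) : FlatMod.IsFlatOverAt f N x := by
  letI := FlatMod.moduleStalkOver f M x
  letI := FlatMod.moduleStalkOver f N x
  let φ : M.presheaf.stalk x ≃ₗ[S.presheaf.stalk (f.base x)] N.presheaf.stalk x :=
    { toFun := stalkFun e.hom x
      map_add' := stalkFun_add e.hom x
      map_smul' := fun r m => stalkFun_smul e.hom x (f.stalkMap x r) m
      invFun := stalkFun e.inv x
      left_inv := fun m => by
        rw [stalkFun_comp_apply, e.hom_inv_id, stalkFun_id_apply]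
      right_inv := fun m => by
        rw [stalkFun_comp_apply, e.inv_hom_id, stalkFun_id_apply] }
  haveI : Module.Flat (S.presheaf.stalk (f.base x)) (M.presheaf.stalk x) := h
  exact Module.Flat.of_linearEquiv φ.symm

end Iso

/-- **EGA IV 11.4.1, affine local base, general pullback squares.** -/
theorem isFlatOverAt_of_family' {X S : Scheme.{u}} (f : X ⟶ S) [IsAffine S]
    [IsLocalRing Γ(S, ⊤)] (hnil : IsNilpotent (maximalIdeal Γ(S, ⊤)))
    [IsLocallyNoetherian X] (F : X.Modules) (hF : Coh.IsCoh F) (x : X)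
    {ι : Type*} (S' : ι → Scheme.{u}) [∀ i, IsAffine (S' i)] [∀ i, IsLocalRing Γ(S' i, ⊤)]
    (X' : ι → Scheme.{u}) (g : ∀ i, S' i ⟶ S) (g' : ∀ i, X' i ⟶ X) (f' : ∀ i, X' i ⟶ S' i)
    (hc : ∀ i, IsPullback (g' i) (f' i) f (g i))
    (hinj : ∀ a : Γ(S, ⊤), (∀ i, (g i).appTop a = 0) → a = 0)
    (hflat : ∀ (i : ι) (x' : X' i), g' i x' = x →
      IsClosed ({f' i x'} : Set (S' i)) →
      FlatMod.IsFlatOverAt (f' i) ((Scheme.Modules.pullback (g' i)).obj F) x') :
    FlatMod.IsFlatOverAt f F x := by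
  haveI : F.IsQuasicoherent := hF.1
  obtain ⟨U, hU, hxU, -⟩ := exists_isAffineOpen_mem_and_subset (x := x) (U := ⊤) trivial
  have hUT : U ≤ f ⁻¹ᵁ ⊤ := fun _ _ => trivial
  have hV : IsAffineOpen (⊤ : S.Opens) := isAffineOpen_top S
  rw [isFlatOverAt_iff_flat_localizedModule f F hU hV hUT x hxU]
  letI := algΓ f hUT
  letI := sectionsModuleOver f F hUT
  haveI := isScalarTower_sections f F hUT
  haveI : IsNoetherianRing Γ(X, U) := IsLocallyNoetherian.component_noetherian ⟨U, hU⟩
  haveI : Module.Finite Γ(X, U) Γ(F, U) := finite_sections_of_isFiniteType F hF.2 hU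
  apply flat_of_forall_relation hnil
  intro J s xs a hind hrel l hl
  apply hinj
  intro i
  have hTT : (⊤ : (S' i).Opens) ≤ (g i) ⁻¹ᵁ ⊤ := fun _ _ => trivial
  have hloc : ∀ a ∈ maximalIdeal Γ(S, ⊤), (g i).appLE ⊤ ⊤ hTT a ∈ maximalIdeal Γ(S' i, ⊤) := by
    intro a ha
    obtain ⟨n, hn⟩ := hnil
    have h1 : a ^ n = 0 := by
      have : a ^ n ∈ maximalIdeal Γ(S, ⊤) ^ n := Ideal.pow_mem_pow ha n
      rw [hn] at this
      exact this
    have h2 : ((g i).appLE ⊤ ⊤ hTT a) ^ n = 0 := by rw [← map_pow, h1, map_zero]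
    rw [IsLocalRing.mem_maximalIdeal, mem_nonunits_iff]
    intro hunit
    have := hunit.pow n
    rw [h2] at this
    exact not_isUnit_zero this
  have := appLE_eq_zero_of_relation (hc i) hTT hloc F hU hUT x hxU
    (hflat i) J s xs a hind hrel l hl
  rw [appLE_top_top] at this
  exact this

lemma germ_eq_zero_of_appTop {Y : Scheme.{u}} (y : Y) (t : Γ(Y, ⊤))
    (h : (Y.fromSpecStalk y).appTop t = 0) :
    Y.presheaf.germ ⊤ y trivial t = 0 := by
  rw [Scheme.fromSpecStalk_appTop] at h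
  have hle : (⊤ : (Spec (Y.presheaf.stalk y)).Opens) ≤ (Y.fromSpecStalk y) ⁻¹ᵁ ⊤ :=
    fun _ _ => trivial
  haveI : IsIso (homOfLE (le_top : (Y.fromSpecStalk y) ⁻¹ᵁ ⊤ ≤ ⊤)) :=
    ⟨⟨homOfLE hle, Subsingleton.elim _ _, Subsingleton.elim _ _⟩⟩
  set i := (Scheme.ΓSpecIso (Y.presheaf.stalk y)).inv ≫
    (Spec (Y.presheaf.stalk y)).presheaf.map
      (homOfLE (le_top : (Y.fromSpecStalk y) ⁻¹ᵁ ⊤ ≤ ⊤)).op with hi
  haveI : IsIso i := by rw [hi]; infer_instance
  have h1 : i (Y.presheaf.germ ⊤ y trivial t) = 0 := h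
  have h0 : i 0 = 0 := map_zero i.hom
  exact (ConcreteCategory.bijective_of_isIso i).injective (h1.trans h0.symm)

/-- **EGA IV 11.4.? (family of arbitrary schemes over an Artinian local affine base)**: if the
sections of the base inject into the product of the global sections of the `Y i` and the pullback
of `F` to each `X ×_S Y i` is flat over `Y i` at all points above `x`, then `F` is flat at `x`. -/
theorem isFlatOverAt_of_scheme_family {X S : Scheme.{u}} (f : X ⟶ S) [IsAffine S]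
    [IsLocalRing Γ(S, ⊤)] (hnil : IsNilpotent (maximalIdeal Γ(S, ⊤)))
    [IsLocallyNoetherian X] (F : X.Modules) (hF : Coh.IsCoh F) (x : X)
    {ι : Type*} (Y : ι → Scheme.{u}) (g : ∀ i, Y i ⟶ S)
    (hinj : ∀ a : Γ(S, ⊤), (∀ i, (g i).appTop a = 0) → a = 0)
    (hflat : ∀ (i : ι) (x' : ↥(pullback f (g i))), pullback.fst f (g i) x' = x →
      FlatMod.IsFlatOverAt (pullback.snd f (g i))
        ((Scheme.Modules.pullback (pullback.fst f (g i))).obj F) x') :
    FlatMod.IsFlatOverAt f F x := by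
  haveI : F.IsQuasicoherent := hF.1
  haveI : ∀ j : (Σ i, ↥(Y i)), IsLocalRing Γ(Spec ((Y j.1).presheaf.stalk j.2), ⊤) := fun j =>
    ((Scheme.ΓSpecIso ((Y j.1).presheaf.stalk j.2)).symm.commRingCatIsoToRingEquiv).isLocalRing
  refine isFlatOverAt_of_family' f hnil F hF x
    (ι := Σ i, ↥(Y i))
    (S' := fun j => Spec ((Y j.1).presheaf.stalk j.2))
    (X' := fun j => pullback (pullback.snd f (g j.1)) ((Y j.1).fromSpecStalk j.2))
    (g := fun j => (Y j.1).fromSpecStalk j.2 ≫ g j.1)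
    (g' := fun j => pullback.fst (pullback.snd f (g j.1)) ((Y j.1).fromSpecStalk j.2) ≫
      pullback.fst f (g j.1))
    (f' := fun j => pullback.snd (pullback.snd f (g j.1)) ((Y j.1).fromSpecStalk j.2))
    (hc := fun j => (IsPullback.of_hasPullback (pullback.snd f (g j.1))
      ((Y j.1).fromSpecStalk j.2)).paste_horiz (IsPullback.of_hasPullback f (g j.1))) ?_ ?_
  · intro a ha
    apply hinj
    intro i
    apply TopCat.Presheaf.section_ext (Y i).sheaf ⊤
    intro y hy
    have h1 := ha ⟨i, y⟩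
    rw [Scheme.Hom.comp_appTop, CommRingCat.comp_apply] at h1
    have h2 := germ_eq_zero_of_appTop y _ h1
    exact h2.trans (map_zero ((Y i).presheaf.germ ⊤ y trivial).hom).symm
  · intro j x'' hx'' _
    haveI := qc_pullback (pullback.fst f (g j.1)) F
    have hx' : pullback.fst f (g j.1)
        (pullback.fst (pullback.snd f (g j.1)) ((Y j.1).fromSpecStalk j.2) x'') = x := by
      rw [← Scheme.Hom.comp_apply]; exact hx''
    have h1 := hflat j.1 _ hx'
    have h2 := isFlatOverAt_pullback_of_isPullback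
      (IsPullback.of_hasPullback (pullback.snd f (g j.1)) ((Y j.1).fromSpecStalk j.2))
      ((Scheme.Modules.pullback (pullback.fst f (g j.1))).obj F) x'' h1
    exact isFlatOverAt_of_iso _
      ((Scheme.Modules.pullbackComp
        (pullback.fst (pullback.snd f (g j.1)) ((Y j.1).fromSpecStalk j.2))
        (pullback.fst f (g j.1))).app F) x'' h2

end Groth.Agent.H3.ArtFlat
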