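import Mathlib
import Groth.Agent.Lib.Helper1.ArtinianFlatDescent

/-!
# Descent of flatness over an Artinian local base along a jointly injective family of
local algebras (EGA IV 11.4): algebraic preliminaries (helper3)
-/

set_option autoImplicit false
open TensorProduct IsLocalRing

namespace Groth.Agent.H3.ArtFlat

universe u v w



/-- multi-local version of "flat + independent mod `m` ⇒ independent": a family of flat modules
over a local ring, finitely many elements of the product whose images in the product of the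
reductions are independent; then any relation among them is trivial. -/
theorem mli {R : Type*} [CommRing R] [IsLocalRing R] {Q : Type*} (N : Q → Type*)
    [∀ q, AddCommGroup (N q)] [∀ q, Module R (N q)] [∀ q, Module.Flat R (N q)]
    {J : Type*} (s : Finset J) (a : J → R) (y : ∀ q, J → N q)
    (hrel : ∀ q, ∑ l ∈ s, a l • y q l = 0)
    (hind : ∀ c : J → R, (∀ q, ∑ l ∈ s, c l • y q l ∈
      maximalIdeal R • (⊤ : Submodule R (N q))) → ∀ l ∈ s, c l ∈ maximalIdeal R) :
    ∀ l ∈ s, a l = 0 := by
  classical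
  set 𝔞 : Ideal R := Ideal.span (a '' (s : Set J)) with h𝔞
  have hmem : ∀ l ∈ s, a l ∈ 𝔞 := fun l hl => Ideal.subset_span ⟨l, hl, rfl⟩
  suffices h : 𝔞 = ⊥ by
    intro l hl
    have := hmem l hl
    rw [h] at this
    simpa using this
  have hfg : (𝔞 : Submodule R R).FG := by
    refine ⟨(s.image a), ?_⟩
    rw [h𝔞, Finset.coe_image]
  refine Submodule.eq_bot_of_le_smul_of_le_jacobson_bot (maximalIdeal R) 𝔞 hfg ?_
    (IsLocalRing.maximalIdeal_le_jacobson ⊥)
  -- the key: every functional `𝔞 → k` kills the generators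
  letI : Field (R ⧸ maximalIdeal R) := Ideal.Quotient.field _
  have key : ∀ (Φ : 𝔞 →ₗ[R] (R ⧸ maximalIdeal R)) (l : J) (hl : l ∈ s),
      Φ ⟨a l, hmem l hl⟩ = 0 := by
    intro Φ
    -- lifts of the values
    have hsurj : Function.Surjective (Ideal.Quotient.mk (maximalIdeal R)) :=
      Ideal.Quotient.mk_surjective
    choose! c hc using fun l : J => hsurj (if hl : l ∈ s then Φ ⟨a l, hmem l hl⟩ else 0)
    have hcm : ∀ l ∈ s, c l ∈ maximalIdeal R := by
      apply hind
      intro q
      -- the element of `𝔞 ⊗ N q`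
      set ξ : 𝔞 ⊗[R] N q := ∑ l ∈ s.attach, (⟨a l.1, hmem l.1 l.2⟩ : 𝔞) ⊗ₜ[R] y q l.1 with hξ
      have h1 : (𝔞.subtype.rTensor (N q)) ξ = 0 := by
        apply (TensorProduct.lid R (N q)).injective
        rw [hξ, map_sum, map_sum, map_zero]
        rw [← hrel q, ← Finset.sum_attach s]
        refine Finset.sum_congr rfl fun l _ => ?_
        simp
      have h2 : ξ = 0 := by
        have hinj := Module.Flat.rTensor_preserves_injective_linearMap (M := N q)
          (𝔞.subtype : 𝔞 →ₗ[R] R) Subtype.val_injective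
        exact hinj (by rw [h1, map_zero])
      have h3 : (Φ.rTensor (N q)) ξ = 0 := by rw [h2, map_zero]
      have h4 : (Φ.rTensor (N q)) ξ =
          TensorProduct.mk R (R ⧸ maximalIdeal R) (N q) 1 (∑ l ∈ s, c l • y q l) := by
        rw [hξ, map_sum, map_sum, ← Finset.sum_attach s]
        refine Finset.sum_congr rfl fun l _ => ?_
        rw [LinearMap.rTensor_tmul, TensorProduct.mk_apply, TensorProduct.tmul_smul,
          TensorProduct.smul_tmul']
        congr 1
        have := hc l.1
        rw [dif_pos l.2] at this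
        rw [← this]
        change _ = c l.1 • (1 : R ⧸ maximalIdeal R)
        rw [Algebra.smul_def, mul_one]
        rfl
      rw [h4] at h3
      have h5 : (∑ l ∈ s, c l • y q l) ∈
          LinearMap.ker (TensorProduct.mk R (R ⧸ maximalIdeal R) (N q) 1) := h3
      rwa [LinearMap.ker_tensorProductMk] at h5
    intro l hl
    have := hc l
    rw [dif_pos hl] at this
    rw [← this]
    exact Ideal.Quotient.eq_zero_iff_mem.mpr (hcm l hl)
  -- conclude generators lie in `m • 𝔞`
  rw [h𝔞, Ideal.span_le]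
  rintro _ ⟨l, hl, rfl⟩
  -- the image of `a l` in `k ⊗ 𝔞` vanishes
  have hz : TensorProduct.mk R (R ⧸ maximalIdeal R) 𝔞 1 ⟨a l, hmem l hl⟩ = 0 := by
    rw [← Module.forall_dual_apply_eq_zero_iff (R ⧸ maximalIdeal R)]
    intro ψ
    have := key ((ψ.restrictScalars R).comp (TensorProduct.mk R (R ⧸ maximalIdeal R) 𝔞 1)) l hl
    simpa using this
  have hz' : (⟨a l, hmem l hl⟩ : 𝔞) ∈
      LinearMap.ker (TensorProduct.mk R (R ⧸ maximalIdeal R) 𝔞 1) := hz
  rw [LinearMap.ker_tensorProductMk] at hz'
  have := Submodule.mem_map_of_mem (f := 𝔞.subtype) hz'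
  rw [Submodule.map_smul'', Submodule.map_top, Submodule.range_subtype] at this
  exact this




lemma mem_of_mem_smul_top_finsupp {A : Type*} [CommRing A] (I : Ideal A) {ι : Type*}
    (β : ι →₀ A) (hβ : β ∈ I • (⊤ : Submodule A (ι →₀ A))) (i : ι) : β i ∈ I := by
  refine Submodule.smul_induction_on hβ ?_ ?_
  · intro a ha z _
    rw [Finsupp.smul_apply, smul_eq_mul]
    exact I.mul_mem_right _ ha
  · intro x y hx hy
    rw [Finsupp.add_apply]
    exact I.add_mem hx hy

/-- freeness criterion over a local ring with nilpotent maximal ideal, in elementwise form. -/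
theorem flat_of_forall_relation {A : Type u} [CommRing A] [IsLocalRing A]
    (hnil : IsNilpotent (maximalIdeal A)) {M : Type u} [AddCommGroup M] [Module A M]
    (H : ∀ (J : Type u) (s : Finset J) (x : J → M) (a : J → A),
      (∀ b : J → A, ∑ l ∈ s, b l • x l ∈ maximalIdeal A • (⊤ : Submodule A M) →
        ∀ l ∈ s, b l ∈ maximalIdeal A) →
      ∑ l ∈ s, a l • x l = 0 → ∀ l ∈ s, a l = 0) :
    Module.Flat A M := by
  classical
  obtain ⟨ι, f, hf⟩ := Groth.Agent.H1.exists_finsupp_lTensor_residue_bijective A M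
  have hsurj : Function.Surjective f :=
    Groth.Agent.H1.surjective_of_lTensor_surjective_of_isNilpotent hnil f hf.2
  have hfc : ∀ (s : Finset ι) (b : ι → A),
      f (∑ l ∈ s, Finsupp.single l (b l)) = ∑ l ∈ s, b l • f (Finsupp.single l 1) := by
    intro s b
    rw [map_sum]
    refine Finset.sum_congr rfl fun l _ => ?_
    rw [← map_smul, Finsupp.smul_single, smul_eq_mul, mul_one]
  have hinj : Function.Injective f := by
    rw [injective_iff_map_eq_zero]
    intro c hc
    have hcs : c = ∑ l ∈ c.support, Finsupp.single l (c l) := (Finsupp.sum_single c).symm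
    have h0 : ∀ l ∈ c.support, c l = 0 := by
      apply H ι c.support (fun i => f (Finsupp.single i 1)) (fun i => c i)
      · intro b hb
        set β : ι →₀ A := ∑ l ∈ c.support, Finsupp.single l (b l) with hβ
        have h1 : f β ∈ maximalIdeal A • (⊤ : Submodule A M) := by
          rw [hβ, hfc]; exact hb
        have h2 : (f.lTensor (A ⧸ maximalIdeal A)) ((1 : A ⧸ maximalIdeal A) ⊗ₜ β) = 0 := by
          rw [LinearMap.lTensor_tmul]
          have : f β ∈ LinearMap.ker (TensorProduct.mk A (A ⧸ maximalIdeal A) M 1) := by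
            rw [LinearMap.ker_tensorProductMk]; exact h1
          exact this
        have h3 : ((1 : A ⧸ maximalIdeal A) ⊗ₜ[A] β) = 0 := hf.1 (by rw [h2, map_zero])
        have h4 : β ∈ LinearMap.ker (TensorProduct.mk A (A ⧸ maximalIdeal A) (ι →₀ A) 1) := h3
        rw [LinearMap.ker_tensorProductMk] at h4
        intro l hl
        have h5 := mem_of_mem_smul_top_finsupp _ β h4 l
        rw [hβ, Finsupp.finset_sum_apply, Finset.sum_eq_single l] at h5
        · simpa using h5
        · intro j _ hjl
          simp [Finsupp.single_apply, hjl]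
        · intro hl'; exact absurd hl hl'
      · rw [← hfc, ← hcs, hc]
    ext l
    by_cases hl : l ∈ c.support
    · simpa using h0 l hl
    · simpa using Finsupp.notMem_support_iff.mp hl
  exact Module.Flat.of_linearEquiv (LinearEquiv.ofBijective f ⟨hinj, hsurj⟩).symm




section smulTop
variable {A B M : Type*} [CommRing A] [CommRing B] [Algebra A B] [AddCommGroup M] [Module B M]
  [Module A M] [IsScalarTower A B M]

/-- `(I B) M = I M` as sets. -/
lemma mem_map_smul_top_iff (I : Ideal A) (x : M) :
    x ∈ (I.map (algebraMap A B)) • (⊤ : Submodule B M) ↔ x ∈ I • (⊤ : Submodule A M) := by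
  constructor
  · intro hx
    refine Submodule.smul_induction_on hx ?_ ?_
    · intro r hr z _
      suffices h : ∀ z : M, r • z ∈ I • (⊤ : Submodule A M) from h z
      refine Submodule.span_induction (p := fun r _ => ∀ z : M, r • z ∈ I • (⊤ : Submodule A M))
        ?_ ?_ ?_ ?_ hr
      · rintro _ ⟨a, ha, rfl⟩ z
        rw [algebraMap_smul]
        exact Submodule.smul_mem_smul ha trivial
      · intro z; rw [zero_smul]; exact Submodule.zero_mem _
      · intro r r' _ _ h h' z
        rw [add_smul]; exact Submodule.add_mem _ (h z) (h' z)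
      · intro b r _ h z
        rw [smul_eq_mul, mul_comm, mul_smul]
        exact h _
    · intro y z hy hz; exact Submodule.add_mem _ hy hz
  · intro hx
    refine Submodule.smul_induction_on hx ?_ ?_
    · intro a ha z _
      rw [← algebraMap_smul B a z]
      exact Submodule.smul_mem_smul (Ideal.mem_map_of_mem _ ha) trivial
    · intro y z hy hz; exact Submodule.add_mem _ hy hz

end smulTop

/-- Krull + finite dimension: independence modulo `m` persists modulo `m M + m_B^n M`. -/
theorem exists_pow_indep {A : Type*} [CommRing A] [IsLocalRing A] {B : Type*} [CommRing B]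
    [IsLocalRing B] [IsNoetherianRing B] [Algebra A B]
    {M : Type*} [AddCommGroup M] [Module B M] [Module A M] [IsScalarTower A B M] [Module.Finite B M]
    {J : Type*} (s : Finset J) (x : J → M)
    (hind : ∀ b : J → A, ∑ l ∈ s, b l • x l ∈ maximalIdeal A • (⊤ : Submodule A M) →
      ∀ l ∈ s, b l ∈ maximalIdeal A) :
    ∃ n : ℕ, ∀ b : J → A, ∑ l ∈ s, b l • x l ∈
      ((maximalIdeal A).map (algebraMap A B)) • (⊤ : Submodule B M) ⊔
        (maximalIdeal B) ^ n • (⊤ : Submodule B M) → ∀ l ∈ s, b l ∈ maximalIdeal A := by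
  classical
  letI : Field (A ⧸ maximalIdeal A) := Ideal.Quotient.field _
  haveI : IsArtinian A (s → A ⧸ maximalIdeal A) :=
    isArtinian_of_surjective_algebraMap (R := A ⧸ maximalIdeal A) Ideal.Quotient.mk_surjective
  set 𝔫 : Submodule B M := ((maximalIdeal A).map (algebraMap A B)) • ⊤ with h𝔫
  set L : ℕ → Submodule B M := fun n => 𝔫 ⊔ (maximalIdeal B) ^ n • ⊤ with hL
  have hLanti : Antitone L := by
    intro n n' hnn'
    exact sup_le_sup_left (Submodule.smul_mono_left (Ideal.pow_le_pow_right hnn')) _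
  -- Krull
  have hkrull : ∀ z : M, (∀ n, z ∈ L n) → z ∈ 𝔫 := by
    intro z hz
    have h1 : 𝔫.mkQ z ∈ (⨅ i, (maximalIdeal B) ^ i • (⊤ : Submodule B (M ⧸ 𝔫))) := by
      rw [Submodule.mem_iInf]
      intro n
      obtain ⟨u, hu, v, hv, rfl⟩ := Submodule.mem_sup.mp (hz n)
      rw [map_add, (Submodule.mkQ_apply _ u), (Submodule.Quotient.mk_eq_zero 𝔫).mpr hu, zero_add]
      have := Submodule.mem_map_of_mem (f := 𝔫.mkQ) hv
      rw [Submodule.map_smul''] at this
      exact Submodule.smul_mono le_rfl le_top this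
    rw [Ideal.iInf_pow_smul_eq_bot_of_isLocalRing _ (IsLocalRing.maximalIdeal.isMaximal B).ne_top,
      Submodule.mem_bot, Submodule.mkQ_apply, Submodule.Quotient.mk_eq_zero] at h1
    exact h1
  -- the linear maps
  let Ψ : (s → A) →ₗ[A] M := ∑ l : s, (LinearMap.proj l).smulRight (x l)
  have hΨ : ∀ b : s → A, Ψ b = ∑ l : s, b l • x l := by
    intro b; simp [Ψ]
  let π : (s → A) →ₗ[A] (s → A ⧸ maximalIdeal A) :=
    LinearMap.pi fun l => (Submodule.mkQ (maximalIdeal A)) ∘ₗ LinearMap.proj l
  have hπ : ∀ (b : s → A) (l : s), π b l = Ideal.Quotient.mk _ (b l) := fun b l => rfl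
  let K : ℕ → Submodule A (s → A) := fun n => Submodule.comap Ψ ((L n).restrictScalars A)
  have hKanti : Antitone K := fun n n' h => Submodule.comap_mono (fun z hz => hLanti h hz)
  have hker : ∀ (b : s → A), (∀ l, b l ∈ maximalIdeal A) → ∀ n, b ∈ K n := by
    intro b hb n
    change Ψ b ∈ L n
    rw [hΨ]
    refine Submodule.sum_mem _ fun l _ => ?_
    apply Submodule.mem_sup_left
    rw [h𝔫, mem_map_smul_top_iff]
    exact Submodule.smul_mem_smul (hb l) trivial
  let Kbar : ℕ →o (Submodule A (s → A ⧸ maximalIdeal A))ᵒᵈ :=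
    ⟨fun n => OrderDual.toDual ((K n).map π), fun n n' h =>
      OrderDual.toDual_le_toDual.mpr (Submodule.map_mono (hKanti h))⟩
  obtain ⟨n₀, hn₀⟩ := IsArtinian.monotone_stabilizes Kbar
  refine ⟨n₀, ?_⟩
  intro b hb
  set b' : s → A := fun l => b l.1 with hb'
  have hsum : ∀ c : J → A, ∑ l ∈ s, c l • x l = ∑ l : s, c l.1 • x l.1 := by
    intro c
    rw [← Finset.sum_attach s]
    rfl
  have hb0 : b' ∈ K n₀ := by
    change Ψ b' ∈ L n₀
    rw [hΨ]
    rw [hsum] at hb
    exact hb
  have hball : ∀ n, b' ∈ K n := by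
    intro n
    rcases le_total n n₀ with h | h
    · exact hKanti h hb0
    · have h1 : π b' ∈ (K n₀).map π := Submodule.mem_map_of_mem hb0
      have h2 : (K n₀).map π = (K n).map π := congrArg OrderDual.ofDual (hn₀ n h)
      rw [h2] at h1
      obtain ⟨b'', hb'', hbb⟩ := h1
      have h3 : b' - b'' ∈ K n := by
        apply hker
        intro l
        have := congrFun hbb l
        rw [hπ, hπ] at this
        rw [Pi.sub_apply, ← Ideal.Quotient.eq]
        exact this.symm
      have := Submodule.add_mem _ h3 hb''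
      rwa [sub_add_cancel] at this
  have hfin : Ψ b' ∈ 𝔫 := hkrull _ (fun n => hball n)
  rw [h𝔫, mem_map_smul_top_iff, hΨ] at hfin
  have := hind b (by rw [hsum]; exact hfin)
  exact this




section La
variable {A' R' : Type*} [CommRing A'] [CommRing R'] [Algebra A' R'] (q : Ideal R') [q.IsPrime]
  {M' : Type*} [AddCommGroup M'] [Module R' M'] [Module A' M'] [IsScalarTower A' R' M']

lemma exists_mk_of_mem_smul_top (I : Ideal A') (z : LocalizedModule q.primeCompl M')
    (hz : z ∈ I • (⊤ : Submodule A' (LocalizedModule q.primeCompl M'))) :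
    ∃ w' ∈ (I.map (algebraMap A' R')) • (⊤ : Submodule R' M'), ∃ t : q.primeCompl,
      z = LocalizedModule.mk w' t := by
  refine Submodule.smul_induction_on hz ?_ ?_
  · intro a ha z _
    induction z using LocalizedModule.induction_on with
    | h n t =>
      refine ⟨a • n, ?_, t, LocalizedModule.smul'_mk a n t⟩
      rw [← algebraMap_smul R' a n]
      exact Submodule.smul_mem_smul (Ideal.mem_map_of_mem _ ha) trivial
  · rintro _ _ ⟨w₁, hw₁, t₁, rfl⟩ ⟨w₂, hw₂, t₂, rfl⟩
    refine ⟨t₂ • w₁ + t₁ • w₂, ?_, t₁ * t₂, ?_⟩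
    · exact Submodule.add_mem _ (Submodule.smul_mem _ _ hw₁) (Submodule.smul_mem _ _ hw₂)
    · rw [LocalizedModule.mk_add_mk]

lemma exists_smul_mem_of_mk_mem (I : Ideal A') (w : M')
    (h : LocalizedModule.mkLinearMap q.primeCompl M' w ∈
      I • (⊤ : Submodule A' (LocalizedModule q.primeCompl M'))) :
    ∃ t ∈ q.primeCompl, t • w ∈ (I.map (algebraMap A' R')) • (⊤ : Submodule R' M') := by
  obtain ⟨w', hw', t, ht⟩ := exists_mk_of_mem_smul_top q I _ h
  rw [LocalizedModule.mkLinearMap_apply, LocalizedModule.mk_eq] at ht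
  obtain ⟨u, hu⟩ := ht
  refine ⟨(u * t : q.primeCompl), (u * t).2, ?_⟩
  have : ((u * t : q.primeCompl) : R') • w = u • t • w := by
    rw [Submonoid.coe_mul, mul_smul]; rfl
  rw [this, hu, one_smul]
  exact Submodule.smul_mem _ _ hw'

end La




section Lb
variable {R R' A' : Type*} [CommRing R] [CommRing R'] [CommRing A'] [IsLocalRing A']
  [Algebra R R'] [Algebra A' R'] (p : Ideal R) [p.IsPrime]
  {M' : Type*} [AddCommGroup M'] [Module R' M']

lemma exists_sub_smul_mem (w : M')
    (h : ∀ (q : Ideal R') [q.IsPrime], q.comap (algebraMap R R') = p →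
      q.comap (algebraMap A' R') = maximalIdeal A' →
      ∃ t ∈ q.primeCompl, t • w ∈
        ((maximalIdeal A').map (algebraMap A' R')) • (⊤ : Submodule R' M')) :
    ∃ t₀ ∈ p.primeCompl, ∃ c₁ ∈ p.map (algebraMap R R'),
      (algebraMap R R' t₀ - c₁) • w ∈
        ((maximalIdeal A').map (algebraMap A' R')) • (⊤ : Submodule R' M') := by
  set Ibar : Ideal R' := (maximalIdeal A').map (algebraMap A' R') with hIbar
  set 𝔫 : Submodule R' M' := Ibar • ⊤ with h𝔫
  set Jc : Ideal R' := 𝔫.colon {w} with hJc
  set 𝔟 : Ideal R' := Jc ⊔ p.map (algebraMap R R') ⊔ Ibar with h𝔟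
  set T' : Submonoid R' := p.primeCompl.map (algebraMap R R') with hT'
  by_cases hdisj : Disjoint (𝔟 : Set R') (T' : Set R')
  · exfalso
    obtain ⟨q, hq, hbq, hqT⟩ := Ideal.exists_le_prime_disjoint 𝔟 T' hdisj
    have h1 : q.comap (algebraMap R R') = p := by
      apply le_antisymm
      · intro r hr
        by_contra hrp
        exact Set.disjoint_left.mp hqT hr ⟨r, hrp, rfl⟩
      · rw [← Ideal.map_le_iff_le_comap]
        exact le_trans (le_trans le_sup_right le_sup_left) hbq
    have h2 : q.comap (algebraMap A' R') = maximalIdeal A' := by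
      have hle : maximalIdeal A' ≤ q.comap (algebraMap A' R') := by
        rw [← Ideal.map_le_iff_le_comap]
        exact le_trans le_sup_right hbq
      have hne : q.comap (algebraMap A' R') ≠ ⊤ := (Ideal.IsPrime.comap _).ne_top
      exact ((IsLocalRing.maximalIdeal.isMaximal A').eq_of_le hne hle).symm
    obtain ⟨t, ht, htw⟩ := h q h1 h2
    apply ht
    apply hbq
    apply Ideal.mem_sup_left
    apply Ideal.mem_sup_left
    rw [hJc, Submodule.mem_colon_singleton]
    exact htw
  · rw [Set.not_disjoint_iff] at hdisj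
    obtain ⟨z, hz𝔟, t₀, ht₀, rfl⟩ := hdisj
    obtain ⟨z₁, hz₁, c₂, hc₂, hsum⟩ := Submodule.mem_sup.mp hz𝔟
    obtain ⟨j, hj, c₁, hc₁, hsum'⟩ := Submodule.mem_sup.mp hz₁
    refine ⟨t₀, ht₀, c₁, hc₁, ?_⟩
    have : algebraMap R R' t₀ - c₁ = j + c₂ := by
      rw [← hsum, ← hsum']; ring
    rw [this, add_smul]
    refine Submodule.add_mem _ ?_ ?_
    · rw [hJc, Submodule.mem_colon_singleton] at hj
      exact hj
    · exact Submodule.smul_mem_smul hc₂ trivial

lemma pow_sub_pow_smul_mem {N : Submodule R' M'} (a b : R') (w : M') (h : (a - b) • w ∈ N) (n : ℕ) :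
    (a ^ n - b ^ n) • w ∈ N := by
  obtain ⟨g, hg⟩ := sub_dvd_pow_sub_pow a b n
  rw [hg, mul_comm, mul_smul]
  exact Submodule.smul_mem _ _ h

end Lb


end Groth.Agent.H3.ArtFlat
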