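import Groth.Agent.Lib.Helper3.ArtFlat.Sch

set_option autoImplicit false
universe u
open CategoryTheory Limits AlgebraicGeometry TopologicalSpace Opposite TensorProduct IsLocalRing

namespace Groth.Agent.H3.ArtFlat

open Groth.Agent.LD.QC Groth.Agent.H1.SchFlat

lemma appLE_top_top {X Y : Scheme.{u}} (g : X ⟶ Y) (h : (⊤ : X.Opens) ≤ g ⁻¹ᵁ ⊤) :
    g.appLE ⊤ ⊤ h = g.appTop := by
  simp [Scheme.Hom.appLE, Scheme.Hom.appTop]

/-- **EGA IV 11.4.1, affine local base**: descent of flatness at a point along a jointly injective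
family of affine local test schemes over an Artinian local base. -/
theorem isFlatOverAt_of_family {X S : Scheme.{u}} (f : X ⟶ S) [IsAffine S]
    [IsLocalRing Γ(S, ⊤)] (hnil : IsNilpotent (maximalIdeal Γ(S, ⊤)))
    [IsLocallyNoetherian X] (F : X.Modules) (hF : Coh.IsCoh F) (x : X)
    {ι : Type*} (S' : ι → Scheme.{u}) [∀ i, IsAffine (S' i)] [∀ i, IsLocalRing Γ(S' i, ⊤)]
    (g : ∀ i, S' i ⟶ S)
    (hinj : ∀ a : Γ(S, ⊤), (∀ i, (g i).appTop a = 0) → a = 0)
    (hflat : ∀ (i : ι) (x' : ↥(pullback f (g i))), pullback.fst f (g i) x' = x →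
      IsClosed ({pullback.snd f (g i) x'} : Set (S' i)) →
      FlatMod.IsFlatOverAt (pullback.snd f (g i))
        ((Scheme.Modules.pullback (pullback.fst f (g i))).obj F) x') :
    FlatMod.IsFlatOverAt f F x := by
  haveI : F.IsQuasicoherent := hF.1
  obtain ⟨U, hU, hxU, -⟩ := exists_isAffineOpen_mem_and_subset (x := x) (U := ⊤) trivial
  have hUT : U ≤ f ⁻¹ᵁ ⊤ := fun _ _ => trivial
  have hV : IsAffineOpen (⊤ : S.Opens) := isAffineOpen_top S
  rw [isFlatOverAt_iff_flat_localizedModule f F hU hV hUT x hxU]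
  letI := algΓ f hUT
  letI := sectionsModuleOver f F hUT
  haveI := isScalarTower_sections f F hUT
  haveI : IsNoetherianRing Γ(X, U) := IsLocallyNoetherian.component_noetherian ⟨U, hU⟩
  haveI : Module.Finite Γ(X, U) Γ(F, U) := finite_sections_of_isFiniteType F hF.2 hU
  apply flat_of_forall_relation hnil
  intro J s xs a hind hrel l hl
  apply hinj
  intro i
  have hTT : (⊤ : (S' i).Opens) ≤ (g i) ⁻¹ᵁ ⊤ := fun _ _ => trivial
  have hloc : ∀ a ∈ maximalIdeal Γ(S, ⊤), (g i).appLE ⊤ ⊤ hTT a ∈ maximalIdeal Γ(S' i, ⊤) := by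
    intro a ha
    obtain ⟨n, hn⟩ := hnil
    have h1 : a ^ n = 0 := by
      have : a ^ n ∈ maximalIdeal Γ(S, ⊤) ^ n := Ideal.pow_mem_pow ha n
      rw [hn] at this
      exact this
    have h2 : ((g i).appLE ⊤ ⊤ hTT a) ^ n = 0 := by rw [← map_pow, h1, map_zero]
    rw [IsLocalRing.mem_maximalIdeal, mem_nonunits_iff]
    intro hunit
    have := hunit.pow n
    rw [h2] at this
    exact not_isUnit_zero this
  have := appLE_eq_zero_of_relation (IsPullback.of_hasPullback f (g i)) hTT hloc F hU hUT x hxU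
    (hflat i) J s xs a hind hrel l hl
  rw [appLE_top_top] at this
  exact this

end Groth.Agent.H3.ArtFlat
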