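import Groth.Agent.Lib.Helper3.ArtFlat.Sch2
import Groth.Agent.Lib.Helper9.Misc.FLH1

set_option autoImplicit false
universe u
open CategoryTheory Limits AlgebraicGeometry TopologicalSpace Opposite TensorProduct IsLocalRing

namespace Groth.Agent.H3.ArtFlat

open Groth.Agent.LD.QC Groth.Agent.H1.SchFlat

lemma ΓSpecIso_hom_appTop {R S : CommRingCat.{u}} (ψ : R ⟶ S) (a : Γ(Spec R, ⊤)) :
    (Scheme.ΓSpecIso S).hom ((Spec.map ψ).appTop a) = ψ ((Scheme.ΓSpecIso R).hom a) := by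
  have hnat := Scheme.ΓSpecIso_naturality ψ
  exact congr($hnat a)

lemma ΓSpecIso_hom_mem_maximalIdeal_iff (R : CommRingCat.{u}) [IsLocalRing R]
    [IsLocalRing Γ(Spec R, ⊤)] (a : Γ(Spec R, ⊤)) :
    (Scheme.ΓSpecIso R).hom a ∈ maximalIdeal R ↔ a ∈ maximalIdeal Γ(Spec R, ⊤) := by
  rw [mem_maximalIdeal, mem_maximalIdeal, mem_nonunits_iff, mem_nonunits_iff, not_iff_not]
  exact isUnit_map_iff (Scheme.ΓSpecIso R).hom.hom a

lemma ΓSpecIso_hom_mem_maximalIdeal_pow_iff (R : CommRingCat.{u}) [IsLocalRing R]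
    [IsLocalRing Γ(Spec R, ⊤)] (n : ℕ) (a : Γ(Spec R, ⊤)) :
    (Scheme.ΓSpecIso R).hom a ∈ maximalIdeal R ^ n ↔ a ∈ maximalIdeal Γ(Spec R, ⊤) ^ n := by
  let e : Γ(Spec R, ⊤) ≃+* R := (Scheme.ΓSpecIso R).commRingCatIsoToRingEquiv
  have h1 : maximalIdeal Γ(Spec R, ⊤) = (maximalIdeal R).comap (e : Γ(Spec R, ⊤) →+* R) := by
    ext b
    rw [Ideal.mem_comap]
    exact (ΓSpecIso_hom_mem_maximalIdeal_iff R b).symm
  have h2 : (maximalIdeal Γ(Spec R, ⊤)).map (e : Γ(Spec R, ⊤) →+* R) = maximalIdeal R := by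
    rw [h1]
    exact Ideal.map_comap_of_surjective _ e.surjective _
  have h3 : (maximalIdeal Γ(Spec R, ⊤) ^ n).map (e : Γ(Spec R, ⊤) →+* R) = maximalIdeal R ^ n := by
    rw [Ideal.map_pow, h2]
  rw [← h3]
  change e a ∈ Ideal.map (e : Γ(Spec R, ⊤) →+* R) _ ↔ _
  constructor
  · intro h
    obtain ⟨b, hb, hba⟩ := (Ideal.mem_map_iff_of_surjective (e : Γ(Spec R, ⊤) →+* R)
      e.surjective).mp h
    have : b = a := e.injective hba
    rwa [← this]
  · intro h
    exact Ideal.mem_map_of_mem _ h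

/-- the adic family theorem over the spectrum of a Noetherian local ring. -/
theorem isFlatOverAt_of_family_adic_Spec (R₀ : CommRingCat.{u}) [IsLocalRing R₀]
    [IsNoetherianRing R₀] {X₀ : Scheme.{u}} [IsLocallyNoetherian X₀] (f₀ : X₀ ⟶ Spec R₀)
    (F₀ : X₀.Modules) (hF₀ : Coh.IsCoh F₀) (x₀ : X₀) (hx₀ : f₀ x₀ = closedPoint R₀)
    {ι : Type*} (A : ι → Type u) [∀ i, CommRing (A i)] [∀ i, IsLocalRing (A i)]
    (φ : ∀ i, (R₀ : Type u) →+* A i) [∀ i, IsLocalHom (φ i)]
    (htop : ∀ N : ℕ, ∃ s : Finset (ι × ℕ),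
      ⨅ p ∈ s, Ideal.comap (φ p.1) (maximalIdeal (A p.1) ^ p.2) ≤ maximalIdeal R₀ ^ N)
    (X' : ι → Scheme.{u}) (g' : ∀ i, X' i ⟶ X₀) (f' : ∀ i, X' i ⟶ Spec (CommRingCat.of (A i)))
    (hc : ∀ i, IsPullback (g' i) (f' i) f₀ (Spec.map (CommRingCat.ofHom (φ i))))
    (hflat : ∀ (i : ι) (x' : X' i), g' i x' = x₀ → f' i x' = closedPoint (A i) →
      FlatMod.IsFlatOverAt (f' i) ((Scheme.Modules.pullback (g' i)).obj F₀) x') :
    FlatMod.IsFlatOverAt f₀ F₀ x₀ := by
  classical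
  let eA : R₀ ≃+* Γ(Spec R₀, ⊤) := (Scheme.ΓSpecIso R₀).symm.commRingCatIsoToRingEquiv
  haveI : IsLocalRing Γ(Spec R₀, ⊤) := eA.isLocalRing
  haveI : IsNoetherianRing Γ(Spec R₀, ⊤) := isNoetherianRing_of_ringEquiv R₀ eA
  haveI : ∀ i, IsLocalRing Γ(Spec (CommRingCat.of (A i)), ⊤) := fun i =>
    ((Scheme.ΓSpecIso (CommRingCat.of (A i))).symm.commRingCatIsoToRingEquiv).isLocalRing
  have hmem : ∀ (i : ι) (n : ℕ) (a : Γ(Spec R₀, ⊤)),
      (Spec.map (CommRingCat.ofHom (φ i))).appTop a ∈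
        maximalIdeal Γ(Spec (CommRingCat.of (A i)), ⊤) ^ n ↔
      φ i ((Scheme.ΓSpecIso R₀).hom a) ∈ maximalIdeal (A i) ^ n := by
    intro i n a
    rw [← ΓSpecIso_hom_mem_maximalIdeal_pow_iff (CommRingCat.of (A i)), ΓSpecIso_hom_appTop]
    rfl
  refine isFlatOverAt_of_family_adic f₀ F₀ hF₀ x₀
    (by rw [hx₀]; exact isClosed_singleton_closedPoint _)
    (S' := fun i => Spec (CommRingCat.of (A i))) (X' := X')
    (g := fun i => Spec.map (CommRingCat.ofHom (φ i))) (g' := g') (f' := f') hc ?_ ?_ ?_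
  · -- local homs
    intro i a ha
    have h1 := (hmem i 1 a)
    rw [pow_one, pow_one] at h1
    rw [h1]
    rw [← ΓSpecIso_hom_mem_maximalIdeal_iff] at ha
    rw [mem_maximalIdeal, mem_nonunits_iff] at ha ⊢
    exact fun hu => ha (isUnit_of_map_unit (φ i) _ hu)
  · -- topology
    intro N
    obtain ⟨s, hs⟩ := htop N
    refine ⟨s, ?_⟩
    intro a ha
    rw [← ΓSpecIso_hom_mem_maximalIdeal_pow_iff]
    apply hs
    simp only [Ideal.mem_iInf, Ideal.mem_comap] at ha ⊢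
    intro p hp
    exact (hmem p.1 p.2 a).mp (ha p hp)
  · -- flatness
    intro i x' hx'1 hx'2
    apply hflat i x' hx'1
    have hmax : (f' i x' : PrimeSpectrum (A i)).asIdeal.IsMaximal :=
      (PrimeSpectrum.isClosed_singleton_iff_isMaximal _).mp hx'2
    apply PrimeSpectrum.ext
    exact IsLocalRing.eq_maximalIdeal hmax


/-- **EGA IV 11.4.? (adic version)**: descent of flatness at a point along a family of local
algebras of the local ring of the base whose "topology" is finer than the adic one. -/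
theorem isFlatOverAt_of_local_family_adic {X Y : Scheme.{u}} [IsLocallyNoetherian Y]
    (f : X ⟶ Y) [LocallyOfFiniteType f] (F : X.Modules) (hF : Coh.IsCoh F) (x : X)
    {ι : Type*} (A : ι → Type u) [∀ i, CommRing (A i)] [∀ i, IsLocalRing (A i)]
    (φ : ∀ i, (Y.presheaf.stalk (f x) : Type u) →+* A i) [∀ i, IsLocalHom (φ i)]
    (htop : ∀ N : ℕ, ∃ s : Finset (ι × ℕ),
      ⨅ p ∈ s, Ideal.comap (φ p.1) (IsLocalRing.maximalIdeal (A p.1) ^ p.2) ≤
        IsLocalRing.maximalIdeal ↑(Y.presheaf.stalk (f x)) ^ N)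
    (hflat : ∀ (i : ι)
      (x' : ↥(pullback f (Spec.map (CommRingCat.ofHom (φ i)) ≫ Y.fromSpecStalk (f x)))),
      pullback.fst f (Spec.map (CommRingCat.ofHom (φ i)) ≫ Y.fromSpecStalk (f x)) x' = x →
      pullback.snd f (Spec.map (CommRingCat.ofHom (φ i)) ≫ Y.fromSpecStalk (f x)) x' =
        IsLocalRing.closedPoint (A i) →
      FlatMod.IsFlatOverAt
        (pullback.snd f (Spec.map (CommRingCat.ofHom (φ i)) ≫ Y.fromSpecStalk (f x)))
        ((Scheme.Modules.pullback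
          (pullback.fst f (Spec.map (CommRingCat.ofHom (φ i)) ≫ Y.fromSpecStalk (f x)))).obj F) x') :
    FlatMod.IsFlatOverAt f F x := by
  classical
  haveI : F.IsQuasicoherent := hF.1
  obtain ⟨x₀, hx₀1, hx₀2⟩ := Scheme.Pullback.exists_preimage_pullback (f := f)
    (g := Y.fromSpecStalk (f x)) x (closedPoint (Y.presheaf.stalk (f x)))
    (by rw [Scheme.fromSpecStalk_closedPoint])
  haveI hjflat : Flat (Y.fromSpecStalk (f x)) := Groth.Agent.H9.FLH.flat_fromSpecStalk Y (f x)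
  have hsq : IsPullback (pullback.fst f (Y.fromSpecStalk (f x)))
      (pullback.snd f (Y.fromSpecStalk (f x))) f (Y.fromSpecStalk (f x)) :=
    IsPullback.of_hasPullback f _
  rw [← hx₀1]
  refine isFlatOverAt_of_pullback_of_isPullback hsq F x₀
    (Flat.stalkMap (Y.fromSpecStalk (f x)) _) ?_
  -- now the family theorem over the local scheme
  haveI : IsLocallyNoetherian (pullback f (Y.fromSpecStalk (f x))) :=
    LocallyOfFiniteType.isLocallyNoetherian (pullback.snd f (Y.fromSpecStalk (f x)))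
  have hF₀ : Coh.IsCoh ((Scheme.Modules.pullback
      (pullback.fst f (Y.fromSpecStalk (f x)))).obj F) :=
    ⟨qc_pullback _ F, isFiniteType_pullback _ F hF.2⟩
  have hcond : ∀ i, pullback.fst f (Spec.map (CommRingCat.ofHom (φ i)) ≫ Y.fromSpecStalk (f x)) ≫ f =
      (pullback.snd f (Spec.map (CommRingCat.ofHom (φ i)) ≫ Y.fromSpecStalk (f x)) ≫
        Spec.map (CommRingCat.ofHom (φ i))) ≫ Y.fromSpecStalk (f x) := by
    intro i
    rw [Category.assoc]
    exact pullback.condition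
  refine isFlatOverAt_of_family_adic_Spec (Y.presheaf.stalk (f x))
    (pullback.snd f (Y.fromSpecStalk (f x))) _ hF₀ x₀ hx₀2 A φ htop
    (X' := fun i => pullback f (Spec.map (CommRingCat.ofHom (φ i)) ≫ Y.fromSpecStalk (f x)))
    (g' := fun i => pullback.lift
      (pullback.fst f (Spec.map (CommRingCat.ofHom (φ i)) ≫ Y.fromSpecStalk (f x)))
      (pullback.snd f (Spec.map (CommRingCat.ofHom (φ i)) ≫ Y.fromSpecStalk (f x)) ≫
        Spec.map (CommRingCat.ofHom (φ i))) (hcond i))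
    (f' := fun i => pullback.snd f (Spec.map (CommRingCat.ofHom (φ i)) ≫ Y.fromSpecStalk (f x)))
    ?_ ?_
  · -- pullback squares
    intro i
    refine IsPullback.of_right ?_ (pullback.lift_snd _ _ _) hsq
    rw [pullback.lift_fst]
    exact IsPullback.of_hasPullback f _
  · -- flatness
    intro i x' hx'1 hx'2
    have hfst : pullback.fst f (Spec.map (CommRingCat.ofHom (φ i)) ≫ Y.fromSpecStalk (f x)) x' =
        x := by
      have h1 := congrArg (pullback.fst f (Y.fromSpecStalk (f x))) hx'1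
      rw [← Scheme.Hom.comp_apply, pullback.lift_fst] at h1
      rw [h1, hx₀1]
    have h2 := hflat i x' hfst hx'2
    have e1 : pullback.lift
        (pullback.fst f (Spec.map (CommRingCat.ofHom (φ i)) ≫ Y.fromSpecStalk (f x)))
        (pullback.snd f (Spec.map (CommRingCat.ofHom (φ i)) ≫ Y.fromSpecStalk (f x)) ≫
          Spec.map (CommRingCat.ofHom (φ i))) (hcond i) ≫
        pullback.fst f (Y.fromSpecStalk (f x)) =
        pullback.fst f (Spec.map (CommRingCat.ofHom (φ i)) ≫ Y.fromSpecStalk (f x)) :=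
      pullback.lift_fst _ _ _
    have e2 : (Scheme.Modules.pullback
        (pullback.fst f (Spec.map (CommRingCat.ofHom (φ i)) ≫ Y.fromSpecStalk (f x)))).obj F ≅
        (Scheme.Modules.pullback (pullback.lift
          (pullback.fst f (Spec.map (CommRingCat.ofHom (φ i)) ≫ Y.fromSpecStalk (f x)))
          (pullback.snd f (Spec.map (CommRingCat.ofHom (φ i)) ≫ Y.fromSpecStalk (f x)) ≫
            Spec.map (CommRingCat.ofHom (φ i))) (hcond i) ≫
          pullback.fst f (Y.fromSpecStalk (f x)))).obj F := eqToIso (by rw [e1])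
    exact isFlatOverAt_of_iso _ (e2 ≪≫ ((Scheme.Modules.pullbackComp _ _).app F).symm) x' h2

end Groth.Agent.H3.ArtFlat
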