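import Mathlib
import Groth.Agent.Lib.Helper9.FinLocal

/-!
# Finite injective algebras over a Noetherian local ring: comparison of topologies (helper3)
-/

set_option autoImplicit false
open IsLocalRing

namespace Groth.Agent.H3.FinAdic

universe u

section AR
variable {R : Type*} [CommRing R] [IsNoetherianRing R] {B : Type*} [CommRing B] [Algebra R B]
  [Module.Finite R B]

/-- Artin–Rees for a finite injective algebra: `Iⁿ⁺ᶜ B ∩ R ⊆ Iⁿ`. -/
lemma exists_comap_map_pow_le (hinj : Function.Injective (algebraMap R B)) (I : Ideal R) :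
    ∃ c : ℕ, ∀ (n : ℕ) (a : R),
      algebraMap R B a ∈ (I ^ (n + c)).map (algebraMap R B) → a ∈ I ^ n := by
  set N' : Submodule R B := LinearMap.range (Algebra.linearMap R B) with hN'
  obtain ⟨c, hc⟩ := Ideal.exists_pow_inf_eq_pow_smul I N'
  refine ⟨c, fun n a ha => ?_⟩
  have h1 : algebraMap R B a ∈ I ^ (n + c) • (⊤ : Submodule R B) ⊓ N' := by
    refine ⟨?_, ⟨a, rfl⟩⟩
    rw [Ideal.smul_top_eq_map]
    exact ha
  rw [hc (n + c) (Nat.le_add_left c n), Nat.add_sub_cancel] at h1
  have h2 : algebraMap R B a ∈ I ^ n • N' := Submodule.smul_mono le_rfl inf_le_right h1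
  have key : ∀ z ∈ I ^ n • N', ∃ a'' ∈ I ^ n, algebraMap R B a'' = z := by
    intro z hz
    refine Submodule.smul_induction_on hz ?_ ?_
    · rintro r hr _ ⟨a', rfl⟩
      refine ⟨r * a', Ideal.mul_mem_right _ _ hr, ?_⟩
      rw [Algebra.linearMap_apply, map_mul, Algebra.smul_def]
    · rintro _ _ ⟨a₁, h₁, rfl⟩ ⟨a₂, h₂, rfl⟩
      exact ⟨a₁ + a₂, Ideal.add_mem _ h₁ h₂, map_add _ _ _⟩
  obtain ⟨a'', ha'', heq⟩ := key _ h2
  rwa [← hinj heq]

end AR

section Loc
variable {B : Type*} [CommRing B]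

/-- powers of a maximal ideal are contracted from the localisation. -/
lemma mem_pow_of_algebraMap_mem (k : Ideal B) [hk : k.IsMaximal] (n : ℕ) (b : B)
    (h : algebraMap B (Localization.AtPrime k) b ∈ maximalIdeal (Localization.AtPrime k) ^ n) :
    b ∈ k ^ n := by
  rw [← Localization.AtPrime.map_eq_maximalIdeal, ← Ideal.map_pow,
    IsLocalization.mem_map_algebraMap_iff k.primeCompl] at h
  obtain ⟨⟨a', s⟩, h⟩ := h
  rw [← map_mul, IsLocalization.eq_iff_exists k.primeCompl] at h
  obtain ⟨s', hs'⟩ := h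
  -- `t b ∈ k ^ n` with `t ∉ k`
  set t : B := s' * s with ht
  have htk : t ∉ k := fun hmem => (hk.isPrime.mem_or_mem hmem).elim s'.2 s.2
  have htb : t * b ∈ k ^ n := by
    have : t * b = s' * a' := by rw [ht, ← hs']; ring
    rw [this]
    exact Ideal.mul_mem_left _ _ a'.2
  have hsup : k ⊔ Ideal.span {t} = ⊤ := by
    apply hk.1.2
    refine lt_of_le_of_ne le_sup_left ?_
    intro heq
    apply htk
    rw [heq]
    exact Ideal.mem_sup_right (Ideal.mem_span_singleton_self t)
  have hsup' : k ^ n ⊔ Ideal.span {t} = ⊤ := Ideal.pow_sup_eq_top hsup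
  have h1 : (1 : B) ∈ k ^ n ⊔ Ideal.span {t} := by rw [hsup']; trivial
  obtain ⟨u, hu, v, hv, huv⟩ := Submodule.mem_sup.mp h1
  obtain ⟨v', rfl⟩ := Ideal.mem_span_singleton'.mp hv
  have : b = u * b + v' * (t * b) := by
    have : b = (u + v' * t) * b := by rw [huv, one_mul]
    rw [add_mul] at this
    rw [← mul_assoc]
    exact this
  rw [this]
  exact Ideal.add_mem _ (Ideal.mul_mem_right _ _ hu) (Ideal.mul_mem_left _ _ htb)

/-- the image of the Jacobson radical lies in the Jacobson radical of a quotient. -/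
lemma map_jacobson_le (I : Ideal B) :
    (Ideal.jacobson (⊥ : Ideal B)).map (Ideal.Quotient.mk I) ≤
      Ideal.jacobson (⊥ : Ideal (B ⧸ I)) := by
  rw [Ideal.map_le_iff_le_comap]
  intro x hx
  rw [Ideal.mem_comap, Ideal.mem_jacobson_bot]
  intro y
  obtain ⟨y, rfl⟩ := Ideal.Quotient.mk_surjective y
  have := (Ideal.mem_jacobson_bot.mp hx) y
  rw [← map_mul, ← map_one (Ideal.Quotient.mk I), ← map_add]
  exact this.map _

lemma forall_mem_pow_imp_mem_jacobson_pow [Finite (MaximalSpectrum B)] (n : ℕ) (b : B)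
    (h : ∀ k : MaximalSpectrum B, b ∈ k.asIdeal ^ n) : b ∈ Ideal.jacobson (⊥ : Ideal B) ^ n := by
  classical
  letI : Fintype (MaximalSpectrum B) := Fintype.ofFinite _
  have hcop : ((Finset.univ : Finset (MaximalSpectrum B)) : Set (MaximalSpectrum B)).Pairwise
      (Function.onFun IsCoprime fun k : MaximalSpectrum B => k.asIdeal ^ n) := by
    intro k _ k' _ hkk'
    have := k.isMaximal
    have := k'.isMaximal
    have h1 : IsCoprime k.asIdeal k'.asIdeal :=
      Ideal.isCoprime_of_isMaximal (fun h => hkk' (MaximalSpectrum.ext h))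
    exact h1.pow
  have h1 : b ∈ ∏ k : MaximalSpectrum B, k.asIdeal ^ n := by
    rw [Ideal.prod_eq_iInf_of_pairwise_isCoprime hcop]
    simp only [Finset.mem_univ, iInf_pos, Ideal.mem_iInf]
    exact h
  rw [Finset.prod_pow] at h1
  refine Ideal.pow_right_mono ?_ n h1
  rw [Ideal.jacobson, le_sInf_iff]
  rintro M ⟨-, hM⟩
  exact Ideal.prod_le_inf.trans (Finset.inf_le (Finset.mem_univ (⟨M, hM⟩ : MaximalSpectrum B)))

end Loc

section Main
variable (R : Type u) [CommRing R] [IsLocalRing R] [IsNoetherianRing R]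
  (B : Type u) [CommRing B] [Algebra R B] [Module.Finite R B]

lemma exists_jacobson_pow_le : ∃ e : ℕ, (Ideal.jacobson (⊥ : Ideal B)) ^ e ≤
    (maximalIdeal R).map (algebraMap R B) := by
  haveI := Groth.Agent.H9.FinLocal.artinian_quot R B
  obtain ⟨e, he⟩ := IsArtinianRing.isNilpotent_jacobson_bot
    (R := B ⧸ (maximalIdeal R).map (algebraMap R B))
  refine ⟨e, fun z hz => ?_⟩
  have h1 : Ideal.Quotient.mk ((maximalIdeal R).map (algebraMap R B)) z ∈
      (Ideal.jacobson (⊥ : Ideal (B ⧸ (maximalIdeal R).map (algebraMap R B)))) ^ e := by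
    refine Ideal.pow_right_mono (map_jacobson_le _) e ?_
    rw [← Ideal.map_pow]
    exact Ideal.mem_map_of_mem _ hz
  rw [he] at h1
  exact Ideal.Quotient.eq_zero_iff_mem.mp h1

/-- **comparison of topologies**: for a finite injective algebra `B` over a Noetherian local ring,
the topology on `R` induced by the powers of the maximal ideals of `B` is the adic topology. -/
theorem exists_pow_forall_mem (hinj : Function.Injective (algebraMap R B)) (N : ℕ) :
    ∃ n : ℕ, ∀ a : R, (∀ k : MaximalSpectrum B, algebraMap R B a ∈ k.asIdeal ^ n) →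
      a ∈ maximalIdeal R ^ N := by
  haveI := Groth.Agent.H9.FinLocal.finite_maximalSpectrum R B
  obtain ⟨c, hc⟩ := exists_comap_map_pow_le hinj (maximalIdeal R)
  obtain ⟨e, he⟩ := exists_jacobson_pow_le R B
  refine ⟨e * (N + c), fun a ha => hc N a ?_⟩
  have h1 := forall_mem_pow_imp_mem_jacobson_pow _ _ ha
  rw [pow_mul] at h1
  have h2 := Ideal.pow_right_mono he (N + c) h1
  rwa [← Ideal.map_pow] at h2

/-- localised form. -/
theorem exists_pow_forall_mem_localization (hinj : Function.Injective (algebraMap R B)) (N : ℕ) :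
    ∃ n : ℕ, ∀ a : R, (∀ k : MaximalSpectrum B,
      algebraMap B (Localization.AtPrime k.asIdeal) (algebraMap R B a) ∈
        maximalIdeal (Localization.AtPrime k.asIdeal) ^ n) → a ∈ maximalIdeal R ^ N := by
  obtain ⟨n, hn⟩ := exists_pow_forall_mem R B hinj N
  refine ⟨n, fun a ha => hn a fun k => ?_⟩
  have := k.isMaximal
  exact mem_pow_of_algebraMap_mem k.asIdeal n _ (ha k)

/-- maximal ideals of a finite algebra over a local ring lie over the maximal ideal. -/
lemma algebraMap_mem_of_mem_maximalIdeal (k : Ideal B) [k.IsMaximal] (a : R)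
    (ha : a ∈ maximalIdeal R) : algebraMap R B a ∈ k :=
  Groth.Agent.H9.FinLocal.map_le_of_isMaximal R B k (Ideal.mem_map_of_mem _ ha)

end Main

end Groth.Agent.H3.FinAdic
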