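import Groth.Agent.Lib.Helper3.ArtFlat.Fam4
import Groth.Agent.Lib.Helper3.ArtFlat.FinAdic

set_option autoImplicit false
universe u
open CategoryTheory Limits AlgebraicGeometry TopologicalSpace Opposite TensorProduct IsLocalRing

namespace Groth.Agent.H3.ArtFlat

open Groth.Agent.LD.QC Groth.Agent.H1.SchFlat

/-- **EGA IV 11.4.? (finite injective test algebra)**. -/
theorem isFlatOverAt_iff_of_finite_injective {X Y : Scheme.{u}} [IsLocallyNoetherian Y]
    (f : X ⟶ Y) [LocallyOfFiniteType f] (F : X.Modules) (hF : Coh.IsCoh F) (x : X)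
    (A' : CommRingCat.{u}) (φ : Y.presheaf.stalk (f x) ⟶ A') (hfin : φ.hom.Finite)
    (hinj : Function.Injective φ.hom) :
    FlatMod.IsFlatOverAt f F x ↔
      ∀ x' : ↥(pullback f (Spec.map φ ≫ Y.fromSpecStalk (f x))),
        pullback.fst f (Spec.map φ ≫ Y.fromSpecStalk (f x)) x' = x →
        IsClosed ({pullback.snd f (Spec.map φ ≫ Y.fromSpecStalk (f x)) x'} : Set ↥(Spec A')) →
          FlatMod.IsFlatOverAt (pullback.snd f (Spec.map φ ≫ Y.fromSpecStalk (f x)))
            ((Scheme.Modules.pullback
              (pullback.fst f (Spec.map φ ≫ Y.fromSpecStalk (f x)))).obj F) x' := by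
  classical
  haveI : F.IsQuasicoherent := hF.1
  constructor
  · intro h x' hx' _
    refine isFlatOverAt_pullback_of_isPullback (IsPullback.of_hasPullback f _) F x' ?_
    rw [hx']
    exact h
  · intro H
    letI alg : Algebra (Y.presheaf.stalk (f x)) A' := φ.hom.toAlgebra
    haveI : Module.Finite (Y.presheaf.stalk (f x)) A' := hfin
    haveI hfinMS : Finite (MaximalSpectrum A') :=
      Groth.Agent.H9.FinLocal.finite_maximalSpectrum (Y.presheaf.stalk (f x)) A'
    letI : Fintype (MaximalSpectrum A') := Fintype.ofFinite _
    haveI hloc : ∀ k : MaximalSpectrum A', IsLocalHom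
        ((algebraMap A' (Localization.AtPrime k.asIdeal)).comp φ.hom) := by
      intro k
      constructor
      intro a ha
      by_contra hna
      have h1 : a ∈ maximalIdeal (Y.presheaf.stalk (f x)) := hna
      have h2 : φ.hom a ∈ k.asIdeal :=
        Groth.Agent.H3.FinAdic.algebraMap_mem_of_mem_maximalIdeal
          (Y.presheaf.stalk (f x)) A' k.asIdeal a h1
      have h3 : algebraMap A' (Localization.AtPrime k.asIdeal) (φ.hom a) ∈
          maximalIdeal (Localization.AtPrime k.asIdeal) :=
        (IsLocalization.AtPrime.to_map_mem_maximal_iff _ k.asIdeal _).mpr h2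
      exact h3 ha
    refine isFlatOverAt_of_local_family_adic' f F hF x (ι := MaximalSpectrum A')
      (A := fun k => Localization.AtPrime k.asIdeal)
      (φ := fun k => (algebraMap A' (Localization.AtPrime k.asIdeal)).comp φ.hom) ?_
      (X' := fun k => pullback (pullback.snd f (Spec.map φ ≫ Y.fromSpecStalk (f x)))
        (Spec.map (CommRingCat.ofHom (algebraMap A' (Localization.AtPrime k.asIdeal)))))
      (g' := fun k => pullback.fst _ _ ≫ pullback.fst f (Spec.map φ ≫ Y.fromSpecStalk (f x)))
      (f' := fun k => pullback.snd _ _) ?_ ?_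
    · -- topology
      intro N
      obtain ⟨n, hn⟩ := Groth.Agent.H3.FinAdic.exists_pow_forall_mem_localization
        (Y.presheaf.stalk (f x)) A' hinj N
      refine ⟨Finset.univ.image (fun k => (k, n)), ?_⟩
      intro a ha
      apply hn a
      intro k
      simp only [Ideal.mem_iInf] at ha
      have := ha (k, n) (Finset.mem_image_of_mem _ (Finset.mem_univ k))
      exact this
    · -- squares
      intro k
      have e : Spec.map (CommRingCat.ofHom
          ((algebraMap A' (Localization.AtPrime k.asIdeal)).comp φ.hom)) ≫
          Y.fromSpecStalk (f x) =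
          Spec.map (CommRingCat.ofHom (algebraMap A' (Localization.AtPrime k.asIdeal))) ≫
            Spec.map φ ≫ Y.fromSpecStalk (f x) := by
        rw [← Category.assoc, ← Spec.map_comp]
        rfl
      rw [e]
      exact (IsPullback.of_hasPullback _ _).paste_horiz (IsPullback.of_hasPullback f _)
    · -- flatness
      intro k x'' hx''1 hx''2
      haveI := qc_pullback (pullback.fst f (Spec.map φ ≫ Y.fromSpecStalk (f x))) F
      have h1 : pullback.fst f (Spec.map φ ≫ Y.fromSpecStalk (f x))
          (pullback.fst (pullback.snd f (Spec.map φ ≫ Y.fromSpecStalk (f x)))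
            (Spec.map (CommRingCat.ofHom (algebraMap A' (Localization.AtPrime k.asIdeal))))
            x'') = x := by
        rw [← Scheme.Hom.comp_apply]; exact hx''1
      have h2 : IsClosed ({pullback.snd f (Spec.map φ ≫ Y.fromSpecStalk (f x))
          (pullback.fst (pullback.snd f (Spec.map φ ≫ Y.fromSpecStalk (f x)))
            (Spec.map (CommRingCat.ofHom (algebraMap A' (Localization.AtPrime k.asIdeal))))
            x'')} : Set ↥(Spec A')) := by
        rw [← Scheme.Hom.comp_apply, pullback.condition, Scheme.Hom.comp_apply, hx''2]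
        refine (PrimeSpectrum.isClosed_singleton_iff_isMaximal (R := A') _).mpr ?_
        have hk : (Ideal.comap (algebraMap A' (Localization.AtPrime k.asIdeal))
            (maximalIdeal (Localization.AtPrime k.asIdeal))) = k.asIdeal :=
          IsLocalization.AtPrime.comap_maximalIdeal _ k.asIdeal
        have hk' := k.isMaximal
        rw [← hk] at hk'
        exact hk'
      have h3 := H _ h1 h2
      have h4 := isFlatOverAt_pullback_of_isPullback
        (IsPullback.of_hasPullback (pullback.snd f (Spec.map φ ≫ Y.fromSpecStalk (f x)))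
          (Spec.map (CommRingCat.ofHom (algebraMap A' (Localization.AtPrime k.asIdeal)))))
        ((Scheme.Modules.pullback (pullback.fst f (Spec.map φ ≫ Y.fromSpecStalk (f x)))).obj F)
        x'' h3
      exact isFlatOverAt_of_iso _ ((Scheme.Modules.pullbackComp _ _).app F) x'' h4

end Groth.Agent.H3.ArtFlat
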