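import Groth.Agent.Lib.Helper3.ArtFlat.Fam6

set_option autoImplicit false
universe u
open CategoryTheory Limits AlgebraicGeometry TopologicalSpace Opposite TensorProduct IsLocalRing

namespace Groth.Agent.H3.ArtFlat

open Groth.Agent.LD.QC Groth.Agent.H1.SchFlat Groth.Agent.H3.Prim

/-- **EGA IV 11.5.? (adic version, one flat point, primary residue extension)**, affine local
Noetherian base, general pullback squares. -/
theorem isFlatOverAt_of_family_adic_one {X S : Scheme.{u}} (f : X ⟶ S) [IsAffine S]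
    [IsLocalRing Γ(S, ⊤)] [IsNoetherianRing Γ(S, ⊤)]
    [IsLocallyNoetherian X] (F : X.Modules) (hF : Coh.IsCoh F) (x : X)
    (hxcl : IsClosed ({f x} : Set S))
    (hprim : IsPrimaryHom (f.residueFieldMap x).hom)
    {ι : Type*} (S' : ι → Scheme.{u}) [∀ i, IsAffine (S' i)] [∀ i, IsLocalRing Γ(S' i, ⊤)]
    (X' : ι → Scheme.{u}) (g : ∀ i, S' i ⟶ S) (g' : ∀ i, X' i ⟶ X) (f' : ∀ i, X' i ⟶ S' i)
    (hc : ∀ i, IsPullback (g' i) (f' i) f (g i))
    (hloc : ∀ i, ∀ a ∈ maximalIdeal Γ(S, ⊤), (g i).appTop a ∈ maximalIdeal Γ(S' i, ⊤))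
    (htop : ∀ N : ℕ, ∃ s : Finset (ι × ℕ),
      ⨅ p ∈ s, Ideal.comap (g p.1).appTop.hom (maximalIdeal Γ(S' p.1, ⊤) ^ p.2) ≤
        maximalIdeal Γ(S, ⊤) ^ N)
    (hflat : ∀ i : ι, ∃ x' : X' i, g' i x' = x ∧ IsClosed ({f' i x'} : Set (S' i)) ∧
      FlatMod.IsFlatOverAt (f' i) ((Scheme.Modules.pullback (g' i)).obj F) x') :
    FlatMod.IsFlatOverAt f F x := by
  classical
  haveI : F.IsQuasicoherent := hF.1
  obtain ⟨U, hU, hxU, -⟩ := exists_isAffineOpen_mem_and_subset (x := x) (U := ⊤) trivial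
  have hUT : U ≤ f ⁻¹ᵁ ⊤ := fun _ _ => trivial
  have hV : IsAffineOpen (⊤ : S.Opens) := isAffineOpen_top S
  rw [isFlatOverAt_iff_flat_localizedModule f F hU hV hUT x hxU]
  letI := algΓ f hUT
  letI := sectionsModuleOver f F hUT
  haveI := isScalarTower_sections f F hUT
  haveI : IsNoetherianRing Γ(X, U) := IsLocallyNoetherian.component_noetherian ⟨U, hU⟩
  haveI : Module.Finite Γ(X, U) Γ(F, U) := finite_sections_of_isFiniteType F hF.2 hU
  set p := (hU.primeIdealOf ⟨x, hxU⟩).asIdeal with hp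
  have hpm : p.comap (algebraMap Γ(S, ⊤) Γ(X, U)) = maximalIdeal Γ(S, ⊤) :=
    comap_primeIdealOf_eq_maximalIdeal f x hxcl hU hUT hxU
  refine flat_of_forall_relation_mod (B := Localization.AtPrime p) ?_ ?_
  · rw [IsLocalRing.jacobson_eq_maximalIdeal ⊥ bot_ne_top, Ideal.map_le_iff_le_comap]
    intro a ha
    rw [Ideal.mem_comap, IsScalarTower.algebraMap_apply Γ(S, ⊤) Γ(X, U) (Localization.AtPrime p),
      IsLocalization.AtPrime.to_map_mem_maximal_iff (Localization.AtPrime p) p]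
    rw [← hpm] at ha
    exact ha
  · intro N
    obtain ⟨s, hs⟩ := htop N
    refine ⟨⨅ p ∈ s, Ideal.comap (g p.1).appTop.hom (maximalIdeal Γ(S' p.1, ⊤) ^ p.2), hs,
      ⟨s.sup Prod.snd, ?_⟩, ?_⟩
    · refine le_iInf₂ fun q hq => ?_
      refine (Ideal.pow_le_pow_right (Finset.le_sup (f := Prod.snd) hq)).trans ?_
      rw [← Ideal.map_le_iff_le_comap, Ideal.map_pow]
      refine Ideal.pow_right_mono ?_ _
      rw [Ideal.map_le_iff_le_comap]
      intro a ha
      exact hloc q.1 a ha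
    · intro J t xs a hind hrel l hl
      rw [Ideal.mem_iInf]
      intro q
      rw [Ideal.mem_iInf]
      intro hq
      rw [Ideal.mem_comap]
      rcases Nat.eq_zero_or_pos q.2 with h0 | h0
      · rw [h0, pow_zero, Ideal.one_eq_top]; trivial
      · have hTT : (⊤ : (S' q.1).Opens) ≤ (g q.1) ⁻¹ᵁ ⊤ := fun _ _ => trivial
        have hloc' : ∀ a ∈ maximalIdeal Γ(S, ⊤),
            (g q.1).appLE ⊤ ⊤ hTT a ∈ maximalIdeal Γ(S' q.1, ⊤) := by
          intro a ha
          rw [appLE_top_top]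
          exact hloc q.1 a ha
        obtain ⟨x', hx'1, hx'2, hfl⟩ := hflat q.1
        subst hx'1
        have := appLE_mem_of_relation_one (hc q.1) hTT hloc'
          (⨅ p ∈ s, Ideal.comap (g p.1).appTop.hom (maximalIdeal Γ(S' p.1, ⊤) ^ p.2))
          (maximalIdeal Γ(S' q.1, ⊤) ^ q.2) ?_ (Ideal.pow_le_self h0.ne') F hU hUT x' hxU
          hxcl hprim hx'2 hfl J t xs a hind hrel l hl
        · rw [appLE_top_top] at this
          exact this
        · rw [Ideal.map_le_iff_le_comap, appLE_top_top]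
          exact iInf₂_le q hq

/-- the adic one-point family theorem over the spectrum of a Noetherian local ring. -/
theorem isFlatOverAt_of_family_adic_Spec_one (R₀ : CommRingCat.{u}) [IsLocalRing R₀]
    [IsNoetherianRing R₀] {X₀ : Scheme.{u}} [IsLocallyNoetherian X₀] (f₀ : X₀ ⟶ Spec R₀)
    (F₀ : X₀.Modules) (hF₀ : Coh.IsCoh F₀) (x₀ : X₀) (hx₀ : f₀ x₀ = closedPoint R₀)
    (hprim : IsPrimaryHom (f₀.residueFieldMap x₀).hom)
    {ι : Type*} (A : ι → Type u) [∀ i, CommRing (A i)] [∀ i, IsLocalRing (A i)]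
    (φ : ∀ i, (R₀ : Type u) →+* A i) [∀ i, IsLocalHom (φ i)]
    (htop : ∀ N : ℕ, ∃ s : Finset (ι × ℕ),
      ⨅ p ∈ s, Ideal.comap (φ p.1) (maximalIdeal (A p.1) ^ p.2) ≤ maximalIdeal R₀ ^ N)
    (X' : ι → Scheme.{u}) (g' : ∀ i, X' i ⟶ X₀) (f' : ∀ i, X' i ⟶ Spec (CommRingCat.of (A i)))
    (hc : ∀ i, IsPullback (g' i) (f' i) f₀ (Spec.map (CommRingCat.ofHom (φ i))))
    (hflat : ∀ i : ι, ∃ x' : X' i, g' i x' = x₀ ∧ f' i x' = closedPoint (A i) ∧
      FlatMod.IsFlatOverAt (f' i) ((Scheme.Modules.pullback (g' i)).obj F₀) x') :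
    FlatMod.IsFlatOverAt f₀ F₀ x₀ := by
  classical
  let eA : R₀ ≃+* Γ(Spec R₀, ⊤) := (Scheme.ΓSpecIso R₀).symm.commRingCatIsoToRingEquiv
  haveI : IsLocalRing Γ(Spec R₀, ⊤) := eA.isLocalRing
  haveI : IsNoetherianRing Γ(Spec R₀, ⊤) := isNoetherianRing_of_ringEquiv R₀ eA
  haveI : ∀ i, IsLocalRing Γ(Spec (CommRingCat.of (A i)), ⊤) := fun i =>
    ((Scheme.ΓSpecIso (CommRingCat.of (A i))).symm.commRingCatIsoToRingEquiv).isLocalRing
  have hmem : ∀ (i : ι) (n : ℕ) (a : Γ(Spec R₀, ⊤)),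
      (Spec.map (CommRingCat.ofHom (φ i))).appTop a ∈
        maximalIdeal Γ(Spec (CommRingCat.of (A i)), ⊤) ^ n ↔
      φ i ((Scheme.ΓSpecIso R₀).hom a) ∈ maximalIdeal (A i) ^ n := by
    intro i n a
    rw [← ΓSpecIso_hom_mem_maximalIdeal_pow_iff (CommRingCat.of (A i)), ΓSpecIso_hom_appTop]
    rfl
  refine isFlatOverAt_of_family_adic_one f₀ F₀ hF₀ x₀
    (by rw [hx₀]; exact isClosed_singleton_closedPoint _) hprim
    (S' := fun i => Spec (CommRingCat.of (A i))) (X' := X')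
    (g := fun i => Spec.map (CommRingCat.ofHom (φ i))) (g' := g') (f' := f') hc ?_ ?_ ?_
  · -- local homs
    intro i a ha
    have h1 := (hmem i 1 a)
    rw [pow_one, pow_one] at h1
    rw [h1]
    rw [← ΓSpecIso_hom_mem_maximalIdeal_iff] at ha
    rw [mem_maximalIdeal, mem_nonunits_iff] at ha ⊢
    exact fun hu => ha (isUnit_of_map_unit (φ i) _ hu)
  · -- topology
    intro N
    obtain ⟨s, hs⟩ := htop N
    refine ⟨s, ?_⟩
    intro a ha
    rw [← ΓSpecIso_hom_mem_maximalIdeal_pow_iff]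
    apply hs
    simp only [Ideal.mem_iInf, Ideal.mem_comap] at ha ⊢
    intro p hp
    exact (hmem p.1 p.2 a).mp (ha p hp)
  · -- flatness
    intro i
    obtain ⟨x', h1, h2, h3⟩ := hflat i
    refine ⟨x', h1, ?_, h3⟩
    rw [h2]
    exact IsLocalRing.isClosed_singleton_closedPoint (A i)

end Groth.Agent.H3.ArtFlat
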