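import Groth.Agent.Lib.Helper3.ArtFlat.Prim

set_option autoImplicit false
universe u
open CategoryTheory Limits AlgebraicGeometry TopologicalSpace Opposite TensorProduct IsLocalRing

namespace Groth.Agent.H3.Prim

lemma residueFieldMap_surjective {X Y : Scheme.{u}} (f : X ⟶ Y) [SurjectiveOnStalks f] (x : X) :
    Function.Surjective (f.residueFieldMap x).hom :=
  residueField_map_surjective (f.stalkMap x).hom (f.stalkMap_surjective x)

/-- the primary property of residue field extensions passes along a commutative square whose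
horizontal maps are surjective on stalks. -/
theorem isPrimaryHom_of_surjectiveOnStalks {X Y X' Y' : Scheme.{u}} (f : X ⟶ Y) (f' : X' ⟶ Y')
    (g' : X' ⟶ X) (g : Y' ⟶ Y) (w : g' ≫ f = f' ≫ g) [SurjectiveOnStalks g]
    [SurjectiveOnStalks g'] (x₀ : X')
    (hprim : IsPrimaryHom (f.residueFieldMap (g' x₀)).hom) :
    IsPrimaryHom (f'.residueFieldMap x₀).hom := by
  have e : f (g' x₀) = g (f' x₀) := by
    rw [← Scheme.Hom.comp_apply, ← Scheme.Hom.comp_apply, w]
  have hsq : f.residueFieldMap (g' x₀) ≫ g'.residueFieldMap x₀ =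
      ((Y.residueFieldCongr e).hom ≫ g.residueFieldMap (f' x₀)) ≫ f'.residueFieldMap x₀ := by
    rw [← Scheme.residueFieldMap_comp, Scheme.Hom.residueFieldMap_congr w,
      Scheme.residueFieldMap_comp, Category.assoc]
    rfl
  refine isPrimaryHom_of_square' (f.residueFieldMap (g' x₀)).hom (f'.residueFieldMap x₀).hom
    ((Y.residueFieldCongr e).hom ≫ g.residueFieldMap (f' x₀)).hom (g'.residueFieldMap x₀).hom
    ?_ ?_ (residueFieldMap_surjective g' x₀) hprim
  · have := congrArg CommRingCat.Hom.hom hsq
    simpa only [CommRingCat.hom_comp] using this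
  · rw [CommRingCat.hom_comp]
    refine (residueFieldMap_surjective g (f' x₀)).comp ?_
    exact (ConcreteCategory.bijective_of_isIso (Y.residueFieldCongr e).hom).2

end Groth.Agent.H3.Prim
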