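import Groth.Agent.Lib.Helper3.ArtFlat.Fam7
import Groth.Agent.Lib.Helper3.ArtFlat.Prim2

set_option autoImplicit false
universe u
open CategoryTheory Limits AlgebraicGeometry TopologicalSpace Opposite TensorProduct IsLocalRing

namespace Groth.Agent.H3.ArtFlat

open Groth.Agent.LD.QC Groth.Agent.H1.SchFlat Groth.Agent.H3.Prim

/-- **EGA IV 11.5.? (adic version, one flat point, primary residue extension)**, general pullback
squares. -/
theorem isFlatOverAt_of_local_family_adic_one' {X Y : Scheme.{u}} [IsLocallyNoetherian Y]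
    (f : X ⟶ Y) [LocallyOfFiniteType f] (F : X.Modules) (hF : Coh.IsCoh F) (x : X)
    (hprim : IsPrimaryHom (f.residueFieldMap x).hom)
    {ι : Type*} (A : ι → Type u) [∀ i, CommRing (A i)] [∀ i, IsLocalRing (A i)]
    (φ : ∀ i, (Y.presheaf.stalk (f x) : Type u) →+* A i) [∀ i, IsLocalHom (φ i)]
    (htop : ∀ N : ℕ, ∃ s : Finset (ι × ℕ),
      ⨅ p ∈ s, Ideal.comap (φ p.1) (IsLocalRing.maximalIdeal (A p.1) ^ p.2) ≤
        IsLocalRing.maximalIdeal ↑(Y.presheaf.stalk (f x)) ^ N)
    (X' : ι → Scheme.{u}) (g' : ∀ i, X' i ⟶ X) (f' : ∀ i, X' i ⟶ Spec (CommRingCat.of (A i)))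
    (hc : ∀ i, IsPullback (g' i) (f' i) f
      (Spec.map (CommRingCat.ofHom (φ i)) ≫ Y.fromSpecStalk (f x)))
    (hflat : ∀ i : ι, ∃ x' : X' i, g' i x' = x ∧ f' i x' = closedPoint (A i) ∧
      FlatMod.IsFlatOverAt (f' i) ((Scheme.Modules.pullback (g' i)).obj F) x') :
    FlatMod.IsFlatOverAt f F x := by
  classical
  haveI : F.IsQuasicoherent := hF.1
  obtain ⟨x₀, hx₀1, hx₀2⟩ := Scheme.Pullback.exists_preimage_pullback (f := f)
    (g := Y.fromSpecStalk (f x)) x (closedPoint (Y.presheaf.stalk (f x)))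
    (by rw [Scheme.fromSpecStalk_closedPoint])
  haveI hjflat : Flat (Y.fromSpecStalk (f x)) := Groth.Agent.H9.FLH.flat_fromSpecStalk Y (f x)
  have hsq : IsPullback (pullback.fst f (Y.fromSpecStalk (f x)))
      (pullback.snd f (Y.fromSpecStalk (f x))) f (Y.fromSpecStalk (f x)) :=
    IsPullback.of_hasPullback f _
  have hprim₀ : IsPrimaryHom
      ((pullback.snd f (Y.fromSpecStalk (f x))).residueFieldMap x₀).hom := by
    refine isPrimaryHom_of_surjectiveOnStalks f (pullback.snd f (Y.fromSpecStalk (f x)))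
      (pullback.fst f (Y.fromSpecStalk (f x))) (Y.fromSpecStalk (f x)) pullback.condition x₀ ?_
    rw [hx₀1]
    exact hprim
  rw [← hx₀1]
  refine isFlatOverAt_of_pullback_of_isPullback hsq F x₀
    (Flat.stalkMap (Y.fromSpecStalk (f x)) _) ?_
  haveI : IsLocallyNoetherian (pullback f (Y.fromSpecStalk (f x))) :=
    LocallyOfFiniteType.isLocallyNoetherian (pullback.snd f (Y.fromSpecStalk (f x)))
  have hF₀ : Coh.IsCoh ((Scheme.Modules.pullback
      (pullback.fst f (Y.fromSpecStalk (f x)))).obj F) :=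
    ⟨qc_pullback _ F, isFiniteType_pullback _ F hF.2⟩
  have hcond : ∀ i, g' i ≫ f =
      (f' i ≫ Spec.map (CommRingCat.ofHom (φ i))) ≫ Y.fromSpecStalk (f x) := by
    intro i
    rw [Category.assoc]
    exact (hc i).w
  refine isFlatOverAt_of_family_adic_Spec_one (Y.presheaf.stalk (f x))
    (pullback.snd f (Y.fromSpecStalk (f x))) _ hF₀ x₀ hx₀2 hprim₀ A φ htop
    (X' := X')
    (g' := fun i => pullback.lift (g' i) (f' i ≫ Spec.map (CommRingCat.ofHom (φ i))) (hcond i))
    (f' := f') ?_ ?_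
  · intro i
    refine IsPullback.of_right ?_ (pullback.lift_snd _ _ _) hsq
    rw [pullback.lift_fst]
    exact hc i
  · intro i
    obtain ⟨x', hx'1, hx'2, hfl⟩ := hflat i
    refine ⟨x', ?_, hx'2, ?_⟩
    · apply (pullback.fst f (Y.fromSpecStalk (f x))).isEmbedding.injective
      rw [← Scheme.Hom.comp_apply, pullback.lift_fst, hx'1, hx₀1]
    · have e1 : pullback.lift (g' i) (f' i ≫ Spec.map (CommRingCat.ofHom (φ i))) (hcond i) ≫
          pullback.fst f (Y.fromSpecStalk (f x)) = g' i := pullback.lift_fst _ _ _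
      have e2 : (Scheme.Modules.pullback (g' i)).obj F ≅
          (Scheme.Modules.pullback (pullback.lift (g' i)
            (f' i ≫ Spec.map (CommRingCat.ofHom (φ i))) (hcond i) ≫
            pullback.fst f (Y.fromSpecStalk (f x)))).obj F := eqToIso (by rw [e1])
      exact isFlatOverAt_of_iso _ (e2 ≪≫ ((Scheme.Modules.pullbackComp _ _).app F).symm) x' hfl

end Groth.Agent.H3.ArtFlat
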