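import Mathlib
import Groth.Agent.Lib.Helper3.ArtFlat.Basic

/-!
# Descent of flatness over an Artinian base: the key independence statement (helper3)
-/

set_option autoImplicit false
open TensorProduct IsLocalRing

namespace Groth.Agent.H3.ArtFlat

universe u v w

section Lc
variable {A R A' R' : Type u} [CommRing A] [IsLocalRing A] [CommRing R] [Algebra A R]
  [CommRing A'] [IsLocalRing A'] [Algebra A A'] [CommRing R'] [Algebra R R'] [Algebra A' R']
  [Algebra A R'] [IsScalarTower A R R'] [IsScalarTower A A' R'] [Algebra.IsPushout A A' R R']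
  (p : Ideal R) [p.IsPrime]
  {M₀ M' : Type u} [AddCommGroup M₀] [Module R M₀]
  [AddCommGroup M'] [Module R' M'] [Module R M'] [IsScalarTower R R' M'] [Module A' M']
  [IsScalarTower A' R' M']
  (σ : M₀ →ₗ[R] M') (hσ : IsBaseChange R' σ)
  {Y : Type u} [AddCommGroup Y] [Module R Y] [Module A Y] [IsScalarTower A R Y]

/-- elements of `(p^n) R'` kill `R' ⊗ Y` when `p^n` kills `Y`. -/
lemma map_pow_smul_tmul_eq_zero (n : ℕ) (hY2 : ∀ r ∈ p ^ n, ∀ y : Y, r • y = 0)
    (r' : R') (hr' : r' ∈ (p ^ n).map (algebraMap R R')) (z : R' ⊗[R] Y) : r' • z = 0 := by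
  suffices h : ∀ z : R' ⊗[R] Y, r' • z = 0 from h z
  refine Submodule.span_induction (p := fun r' _ => ∀ z : R' ⊗[R] Y, r' • z = 0) ?_ ?_ ?_ ?_ hr'
  · rintro _ ⟨r, hr, rfl⟩ z
    induction z using TensorProduct.induction_on with
    | zero => rw [smul_zero]
    | add x y hx hy => rw [smul_add, hx, hy, add_zero]
    | tmul x y =>
      rw [TensorProduct.smul_tmul', smul_eq_mul, ← Algebra.smul_def,
        TensorProduct.smul_tmul, hY2 r hr, TensorProduct.tmul_zero]
  · intro z; rw [zero_smul]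
  · intro a b _ _ ha hb z; rw [add_smul, ha, hb, add_zero]
  · intro a b _ hb z
    rw [smul_eq_mul, mul_comm, mul_smul, hb]

/-- `Ī • ⊤` is killed by any `A'`-linear map to the residue field. -/
lemma map_smul_top_le_ker {Z : Type*} [AddCommGroup Z] [Module R' Z] [Module A' Z]
    [IsScalarTower A' R' Z] (Λ : Z →ₗ[A'] (A' ⧸ maximalIdeal A')) (z : Z)
    (hz : z ∈ ((maximalIdeal A').map (algebraMap A' R')) • (⊤ : Submodule R' Z)) : Λ z = 0 := by
  refine Submodule.smul_induction_on hz ?_ ?_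
  · intro r' hr' z _
    suffices h : ∀ z : Z, Λ (r' • z) = 0 from h z
    refine Submodule.span_induction (p := fun r' _ => ∀ z : Z, Λ (r' • z) = 0) ?_ ?_ ?_ ?_ hr'
    · rintro _ ⟨a', ha', rfl⟩ z
      rw [algebraMap_smul, map_smul]
      obtain ⟨x, hx⟩ := Ideal.Quotient.mk_surjective (Λ z)
      rw [← hx, Algebra.smul_def, Ideal.Quotient.algebraMap_eq, ← map_mul,
        Ideal.Quotient.eq_zero_iff_mem]
      exact Ideal.mul_mem_right _ _ ha'
    · intro z; rw [zero_smul, map_zero]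
    · intro a b _ _ ha hb z; rw [add_smul, map_add, ha, hb, add_zero]
    · intro a b _ hb z
      rw [smul_eq_mul, mul_comm, mul_smul, hb]
  · intro x y hx hy; rw [map_add, hx, hy, add_zero]

include hσ in
theorem mem_of_relation (hloc : ∀ a ∈ maximalIdeal A, algebraMap A A' a ∈ maximalIdeal A')
    (hY1 : ∀ a ∈ maximalIdeal A, ∀ y : Y, a • y = 0)
    (n : ℕ) (hY2 : ∀ r ∈ p ^ n, ∀ y : Y, r • y = 0)
    (hY3 : ∀ t ∈ p.primeCompl, Function.Bijective (fun y : Y => t • y))
    (π : M₀ →ₗ[R] Y) {J : Type*} (s : Finset J) (m : J → M₀)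
    (hind : ∀ b : J → A, ∑ l ∈ s, b l • π (m l) = 0 → ∀ l ∈ s, b l ∈ maximalIdeal A)
    (c : J → A') (t₀ : R) (ht₀ : t₀ ∈ p.primeCompl) (c₁ : R')
    (hc₁ : c₁ ∈ p.map (algebraMap R R'))
    (h2 : (algebraMap R R' t₀ - c₁) • (∑ l ∈ s, c l • σ (m l)) ∈
      ((maximalIdeal A').map (algebraMap A' R')) • (⊤ : Submodule R' M')) :
    ∀ l ∈ s, c l ∈ maximalIdeal A' := by
  classical
  intro l₀ hl₀
  set w : M' := ∑ l ∈ s, c l • σ (m l) with hw
  set Ibar : Ideal R' := (maximalIdeal A').map (algebraMap A' R') with hIbar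
  let Θ : M' →ₗ[R'] R' ⊗[R] Y := hσ.lift ((TensorProduct.mk R R' Y 1) ∘ₗ π)
  have hΘ : ∀ x : M₀, Θ (σ x) = (1 : R') ⊗ₜ[R] π x := fun x => hσ.lift_eq _ x
  have hΘI : ∀ z ∈ Ibar • (⊤ : Submodule R' M'),
      Θ z ∈ Ibar • (⊤ : Submodule R' (R' ⊗[R] Y)) := by
    intro z hz
    have := Submodule.mem_map_of_mem (f := Θ) hz
    rw [Submodule.map_smul''] at this
    exact Submodule.smul_mono le_rfl le_top this
  have h3 := pow_sub_pow_smul_mem (algebraMap R R' t₀) c₁ w h2 n
  have h4 : (algebraMap R R' t₀ ^ n) • Θ w ∈ Ibar • (⊤ : Submodule R' (R' ⊗[R] Y)) := by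
    have := hΘI _ h3
    rw [sub_smul, map_sub, map_smul, map_smul] at this
    have hz : c₁ ^ n • Θ w = 0 :=
      map_pow_smul_tmul_eq_zero p n hY2 _ (by rw [Ideal.map_pow]; exact Ideal.pow_mem_pow hc₁ n) _
    rwa [hz, sub_zero] at this
  -- inverse of `t₀ ^ n` on `Y`
  let e : Y ≃ₗ[R] Y := LinearEquiv.ofBijective (LinearMap.lsmul R Y (t₀ ^ n))
    (hY3 (t₀ ^ n) (pow_mem ht₀ n))
  have he : ∀ y : Y, e.symm (t₀ ^ n • y) = y := fun y => e.symm_apply_apply y
  let G : R' ⊗[R] Y →ₗ[R'] R' ⊗[R] Y := e.symm.toLinearMap.baseChange R'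
  have hG : ∀ z : R' ⊗[R] Y, G ((algebraMap R R' t₀ ^ n) • z) = z := by
    intro z
    induction z using TensorProduct.induction_on with
    | zero => rw [smul_zero, map_zero]
    | add x y hx hy => rw [smul_add, map_add, hx, hy]
    | tmul x y =>
      rw [← map_pow, TensorProduct.smul_tmul', smul_eq_mul, ← Algebra.smul_def,
        TensorProduct.smul_tmul, LinearMap.baseChange_tmul, LinearEquiv.coe_coe, he]
  have h5 : Θ w ∈ Ibar • (⊤ : Submodule R' (R' ⊗[R] Y)) := by
    have := Submodule.mem_map_of_mem (f := G) h4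
    rw [Submodule.map_smul'', hG] at this
    exact Submodule.smul_mono le_rfl le_top this
  have h6 : Θ w = ∑ l ∈ s, c l • ((1 : R') ⊗ₜ[R] π (m l)) := by
    rw [hw, map_sum]
    refine Finset.sum_congr rfl fun l _ => ?_
    rw [← algebraMap_smul R' (c l) (σ (m l)), map_smul, hΘ, algebraMap_smul]
  -- the residue field structure on `Y`
  have htors : Module.IsTorsionBySet A Y (maximalIdeal A : Set A) := by
    rintro y ⟨a, ha⟩
    exact hY1 a ha y
  letI : Field (A ⧸ maximalIdeal A) := Ideal.Quotient.field _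
  letI : Module (A ⧸ maximalIdeal A) Y := htors.module
  haveI : IsScalarTower A (A ⧸ maximalIdeal A) Y := htors.isScalarTower
  have hmk : ∀ (a : A) (y : Y), (Ideal.Quotient.mk (maximalIdeal A) a) • y = a • y := by
    intro a y
    exact Module.IsTorsionBySet.mk_smul htors a y
  let f : (s → A ⧸ maximalIdeal A) →ₗ[A ⧸ maximalIdeal A] Y :=
    Fintype.linearCombination (A ⧸ maximalIdeal A) (fun l : s => π (m l.1))
  have hfker : LinearMap.ker f = ⊥ := by
    rw [LinearMap.ker_eq_bot']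
    intro v hv
    choose b hb using fun l : s => Ideal.Quotient.mk_surjective (v l)
    have h0 : ∑ l ∈ s, (fun j : J => if hj : j ∈ s then b ⟨j, hj⟩ else 0) l • π (m l) = 0 := by
      rw [← Finset.sum_attach s]
      rw [Fintype.linearCombination_apply] at hv
      rw [← hv]
      refine Finset.sum_congr rfl fun l _ => ?_
      dsimp only
      rw [dif_pos l.2, ← hb l, hmk]
    have h1 := hind _ h0
    ext l
    rw [← hb l, Pi.zero_apply, Ideal.Quotient.eq_zero_iff_mem]
    have := h1 l.1 l.2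
    rwa [dif_pos l.2] at this
  obtain ⟨g, hg⟩ := LinearMap.exists_leftInverse_of_injective f hfker
  let lam : Y →ₗ[A ⧸ maximalIdeal A] (A ⧸ maximalIdeal A) :=
    (LinearMap.proj (⟨l₀, hl₀⟩ : s)) ∘ₗ g
  have hlam : ∀ l (hl : l ∈ s), lam (π (m l)) = if l = l₀ then 1 else 0 := by
    intro l hl
    have h1 : π (m l) = f (Pi.single (⟨l, hl⟩ : s) 1) := by
      rw [Fintype.linearCombination_apply_single, one_smul]
    rw [h1]
    change (g (f (Pi.single (⟨l, hl⟩ : s) 1))) ⟨l₀, hl₀⟩ = _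
    have h2 : g (f (Pi.single (⟨l, hl⟩ : s) 1)) = Pi.single (⟨l, hl⟩ : s) 1 :=
      LinearMap.congr_fun hg _
    rw [h2, Pi.single_apply]
    simp only [Subtype.mk.injEq]
    by_cases hll : l = l₀
    · rw [if_pos hll, if_pos hll.symm]
    · rw [if_neg hll, if_neg (Ne.symm hll)]
  let lamA : Y →ₗ[A] (A ⧸ maximalIdeal A) := lam.restrictScalars A
  have hle : (maximalIdeal A : Submodule A A) ≤
      LinearMap.ker (Algebra.linearMap A (A' ⧸ maximalIdeal A')) := by
    intro a ha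
    rw [LinearMap.mem_ker, Algebra.linearMap_apply,
      IsScalarTower.algebraMap_apply A A' (A' ⧸ maximalIdeal A'), Ideal.Quotient.algebraMap_eq,
      Ideal.Quotient.eq_zero_iff_mem]
    exact hloc a ha
  let ρ : (A ⧸ maximalIdeal A) →ₗ[A] (A' ⧸ maximalIdeal A') :=
    Submodule.liftQ (maximalIdeal A) (Algebra.linearMap A (A' ⧸ maximalIdeal A')) hle
  have hρ1 : ρ 1 = 1 := by
    change ρ (Submodule.Quotient.mk 1) = 1
    rw [Submodule.liftQ_apply, Algebra.linearMap_apply, map_one]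
  let Λ : R' ⊗[R] Y →ₗ[A'] (A' ⧸ maximalIdeal A') :=
    (LinearMap.liftBaseChange A' (ρ ∘ₗ lamA)) ∘ₗ
      (Algebra.IsPushout.cancelBaseChange A A' R R' Y).toLinearMap
  have hΛ : ∀ y : Y, Λ ((1 : R') ⊗ₜ[R] y) = ρ (lam y) := by
    intro y
    change (LinearMap.liftBaseChange A' (ρ ∘ₗ lamA))
      ((Algebra.IsPushout.cancelBaseChange A A' R R' Y) ((1 : R') ⊗ₜ[R] y)) = _
    rw [Algebra.IsPushout.cancelBaseChange_tmul, LinearMap.liftBaseChange_tmul, one_smul]
    rfl
  have h7 : Λ (Θ w) = 0 := map_smul_top_le_ker Λ _ h5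
  rw [h6, map_sum] at h7
  rw [Finset.sum_eq_single l₀] at h7
  · rw [map_smul, hΛ, hlam l₀ hl₀, if_pos rfl, hρ1, Algebra.smul_def, mul_one,
      Ideal.Quotient.algebraMap_eq, Ideal.Quotient.eq_zero_iff_mem] at h7
    exact h7
  · intro l hl hll
    rw [map_smul, hΛ, hlam l hl, if_neg hll, map_zero, smul_zero]
  · intro h; exact absurd hl₀ h

end Lc

end Groth.Agent.H3.ArtFlat
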