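import Mathlib
import Groth.Agent.Lib.Helper3.ArtFlat.Key

/-!
# Descent of flatness over an Artinian base: relations die in every test algebra (helper3)
-/

set_option autoImplicit false
open TensorProduct IsLocalRing

namespace Groth.Agent.H3.ArtFlat

universe u v w

section Key
variable {A R A' R' : Type u} [CommRing A] [IsLocalRing A] [CommRing R] [Algebra A R]
  [IsNoetherianRing R]
  [CommRing A'] [IsLocalRing A'] [Algebra A A'] [CommRing R'] [Algebra R R'] [Algebra A' R']
  [Algebra A R'] [IsScalarTower A R R'] [IsScalarTower A A' R'] [Algebra.IsPushout A A' R R']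
  (p : Ideal R) [p.IsPrime]
  {M₀ M' : Type u} [AddCommGroup M₀] [Module R M₀] [Module A M₀] [IsScalarTower A R M₀]
  [Module.Finite R M₀]
  [AddCommGroup M'] [Module R' M'] [Module R M'] [IsScalarTower R R' M'] [Module A' M']
  [IsScalarTower A' R' M']
  (σ : M₀ →ₗ[R] M') (hσ : IsBaseChange R' σ)

include hσ in
theorem key_indep (hloc : ∀ a ∈ maximalIdeal A, algebraMap A A' a ∈ maximalIdeal A')
    {J : Type*} (s : Finset J) (m : J → M₀)
    (hind : ∀ b : J → A, (∑ l ∈ s, b l • LocalizedModule.mkLinearMap p.primeCompl M₀ (m l)) ∈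
       maximalIdeal A • (⊤ : Submodule A (LocalizedModule p.primeCompl M₀)) →
         ∀ l ∈ s, b l ∈ maximalIdeal A)
    (c : J → A')
    (hc : ∀ (q : Ideal R') [q.IsPrime], q.comap (algebraMap R R') = p →
      q.comap (algebraMap A' R') = maximalIdeal A' →
      (∑ l ∈ s, c l • LocalizedModule.mkLinearMap q.primeCompl M' (σ (m l))) ∈
        maximalIdeal A' • (⊤ : Submodule A' (LocalizedModule q.primeCompl M'))) :
    ∀ l ∈ s, c l ∈ maximalIdeal A' := by
  classical
  set w : M' := ∑ l ∈ s, c l • σ (m l) with hw
  set Ibar : Ideal R' := (maximalIdeal A').map (algebraMap A' R') with hIbar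
  -- step 1
  have h1 : ∀ (q : Ideal R') [q.IsPrime], q.comap (algebraMap R R') = p →
      q.comap (algebraMap A' R') = maximalIdeal A' →
      ∃ t ∈ q.primeCompl, t • w ∈ Ibar • (⊤ : Submodule R' M') := by
    intro q _ hq1 hq2
    apply exists_smul_mem_of_mk_mem q (maximalIdeal A') w
    have := hc q hq1 hq2
    rw [hw, map_sum]
    convert this using 2 with l hl
    rw [LocalizedModule.mkLinearMap_apply, LocalizedModule.mkLinearMap_apply,
      LocalizedModule.smul'_mk]
  obtain ⟨t₀, ht₀, c₁, hc₁, h2⟩ := exists_sub_smul_mem p w h1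
  -- the local ring and module
  obtain ⟨n, hn⟩ := exists_pow_indep (A := A) (B := Localization.AtPrime p)
    (M := LocalizedModule p.primeCompl M₀) s
    (fun l => LocalizedModule.mkLinearMap p.primeCompl M₀ (m l)) hind
  set L : Submodule (Localization.AtPrime p) (LocalizedModule p.primeCompl M₀) :=
    ((maximalIdeal A).map (algebraMap A (Localization.AtPrime p))) • ⊤ ⊔
      (maximalIdeal (Localization.AtPrime p)) ^ n • ⊤ with hL
  let π : M₀ →ₗ[R] (LocalizedModule p.primeCompl M₀ ⧸ L) :=
    (L.mkQ.restrictScalars R) ∘ₗ (LocalizedModule.mkLinearMap p.primeCompl M₀)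
  have hπ : ∀ x : M₀, π x = L.mkQ (LocalizedModule.mkLinearMap p.primeCompl M₀ x) := fun x => rfl
  refine mem_of_relation (Y := LocalizedModule p.primeCompl M₀ ⧸ L) p σ hσ hloc ?_ n ?_ ?_ π s m
    ?_ c t₀ ht₀ c₁ hc₁ h2
  · -- killed by `m`
    intro a ha y
    obtain ⟨z, rfl⟩ := L.mkQ_surjective y
    rw [← algebraMap_smul (Localization.AtPrime p) a, ← map_smul, Submodule.mkQ_apply,
      Submodule.Quotient.mk_eq_zero]
    apply Submodule.mem_sup_left
    exact Submodule.smul_mem_smul (Ideal.mem_map_of_mem _ ha) trivial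
  · -- killed by `p ^ n`
    intro r hr y
    obtain ⟨z, rfl⟩ := L.mkQ_surjective y
    rw [← algebraMap_smul (Localization.AtPrime p) r, ← map_smul, Submodule.mkQ_apply,
      Submodule.Quotient.mk_eq_zero]
    apply Submodule.mem_sup_right
    refine Submodule.smul_mem_smul ?_ trivial
    rw [← Localization.AtPrime.map_eq_maximalIdeal, ← Ideal.map_pow]
    exact Ideal.mem_map_of_mem _ hr
  · -- elements outside `p` act bijectively
    intro t ht
    have hu : IsUnit (algebraMap R (Localization.AtPrime p) t) :=
      IsLocalization.map_units (Localization.AtPrime p) (⟨t, ht⟩ : p.primeCompl)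
    have hb : Function.Bijective (fun y : LocalizedModule p.primeCompl M₀ ⧸ L =>
        (algebraMap R (Localization.AtPrime p) t) • y) := by
      constructor
      · intro y y' h
        exact hu.smul_left_cancel.mp h
      · intro y
        refine ⟨((hu.unit⁻¹ : (Localization.AtPrime p)ˣ) : Localization.AtPrime p) • y, ?_⟩
        change (algebraMap R (Localization.AtPrime p) t) • _ = y
        rw [smul_smul]
        have : algebraMap R (Localization.AtPrime p) t *
            ((hu.unit⁻¹ : (Localization.AtPrime p)ˣ) : Localization.AtPrime p) = 1 :=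
          hu.mul_val_inv
        rw [this, one_smul]
    convert hb using 2 with y
    rw [algebraMap_smul]
  · intro b hb
    apply hn b
    have : (∑ l ∈ s, b l • LocalizedModule.mkLinearMap p.primeCompl M₀ (m l)) ∈ L := by
      rw [← Submodule.Quotient.mk_eq_zero, ← Submodule.mkQ_apply, map_sum, ← hb]
      refine Finset.sum_congr rfl fun l _ => ?_
      rw [hπ, ← algebraMap_smul (Localization.AtPrime p) (b l), map_smul, algebraMap_smul]
    exact this

include hσ in
/-- **single test algebra**: any `A`-relation among elements of `(M₀)_p` independent modulo `m`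
has coefficients dying in `A'`, provided the base change of `M₀` is `A'`-flat at all primes
above `p` and the closed point. -/
theorem algebraMap_eq_zero_of_relation
    (hloc : ∀ a ∈ maximalIdeal A, algebraMap A A' a ∈ maximalIdeal A')
    (hflat : ∀ (q : Ideal R') [q.IsPrime], q.comap (algebraMap R R') = p →
      q.comap (algebraMap A' R') = maximalIdeal A' →
      Module.Flat A' (LocalizedModule q.primeCompl M'))
    {J : Type*} (s : Finset J) (x : J → LocalizedModule p.primeCompl M₀) (a : J → A)
    (hind : ∀ b : J → A, ∑ l ∈ s, b l • x l ∈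
      maximalIdeal A • (⊤ : Submodule A (LocalizedModule p.primeCompl M₀)) →
        ∀ l ∈ s, b l ∈ maximalIdeal A)
    (hrel : ∑ l ∈ s, a l • x l = 0) : ∀ l ∈ s, algebraMap A A' (a l) = 0 := by
  classical
  obtain ⟨t, ht⟩ := IsLocalizedModule.exist_integer_multiples p.primeCompl
    (LocalizedModule.mkLinearMap p.primeCompl M₀) s x
  have hex : ∀ l, ∃ ml : M₀, l ∈ s →
      LocalizedModule.mkLinearMap p.primeCompl M₀ ml = t.val • x l := by
    intro l
    by_cases hl : l ∈ s
    · obtain ⟨ml, hml⟩ := ht l hl
      exact ⟨ml, fun _ => hml⟩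
    · exact ⟨0, fun h => absurd h hl⟩
  choose m hm using hex
  have hsum : ∀ b : J → A, ∑ l ∈ s, b l • LocalizedModule.mkLinearMap p.primeCompl M₀ (m l) =
      t.val • ∑ l ∈ s, b l • x l := by
    intro b
    rw [Finset.smul_sum]
    refine Finset.sum_congr rfl fun l hl => ?_
    rw [hm l hl, smul_comm]
  have hu : IsUnit (algebraMap R (Localization.AtPrime p) t.val) :=
    IsLocalization.map_units (Localization.AtPrime p) t
  -- independence of the numerators
  have hind' : ∀ b : J → A,
      (∑ l ∈ s, b l • LocalizedModule.mkLinearMap p.primeCompl M₀ (m l)) ∈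
        maximalIdeal A • (⊤ : Submodule A (LocalizedModule p.primeCompl M₀)) →
          ∀ l ∈ s, b l ∈ maximalIdeal A := by
    intro b hb
    apply hind b
    rw [hsum b, ← mem_map_smul_top_iff (B := Localization.AtPrime p),
      ← algebraMap_smul (Localization.AtPrime p) t.val] at hb
    rw [← mem_map_smul_top_iff (B := Localization.AtPrime p)]
    have := Submodule.smul_mem _ ((hu.unit⁻¹ : (Localization.AtPrime p)ˣ) :
      Localization.AtPrime p) hb
    rw [smul_smul] at this
    have h1 : ((hu.unit⁻¹ : (Localization.AtPrime p)ˣ) : Localization.AtPrime p) *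
        algebraMap R (Localization.AtPrime p) t.val = 1 := hu.val_inv_mul
    rwa [h1, one_smul] at this
  -- the relation among numerators
  have hrel' : LocalizedModule.mkLinearMap p.primeCompl M₀ (∑ l ∈ s, a l • m l) = 0 := by
    rw [map_sum]
    have := hsum a
    rw [hrel, smul_zero] at this
    rw [← this]
    refine Finset.sum_congr rfl fun l _ => ?_
    rw [LinearMap.map_smul_of_tower]
  obtain ⟨t', ht'⟩ := (IsLocalizedModule.eq_zero_iff p.primeCompl
    (LocalizedModule.mkLinearMap p.primeCompl M₀)).mp hrel'
  -- the index set of test primes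
  let Q := {q : PrimeSpectrum R' // q.asIdeal.comap (algebraMap R R') = p ∧
    q.asIdeal.comap (algebraMap A' R') = maximalIdeal A'}
  haveI : ∀ q : Q, Module.Flat A' (LocalizedModule q.1.asIdeal.primeCompl M') :=
    fun q => hflat q.1.asIdeal q.2.1 q.2.2
  have hσa : ∀ (a₀ : A) (z : M₀), algebraMap A A' a₀ • σ z = σ (a₀ • z) := by
    intro a₀ z
    rw [← algebraMap_smul R' (algebraMap A A' a₀), ← IsScalarTower.algebraMap_apply A A' R',
      IsScalarTower.algebraMap_apply A R R', algebraMap_smul, ← algebraMap_smul R a₀ z, map_smul]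
  have key := mli (R := A') (Q := Q) (fun q => LocalizedModule q.1.asIdeal.primeCompl M') s
    (fun l => algebraMap A A' (a l))
    (fun q l => LocalizedModule.mkLinearMap q.1.asIdeal.primeCompl M' (σ (m l))) ?_ ?_
  · exact key
  · intro q
    have h1 : ∑ l ∈ s, algebraMap A A' (a l) •
        LocalizedModule.mkLinearMap q.1.asIdeal.primeCompl M' (σ (m l)) =
        LocalizedModule.mkLinearMap q.1.asIdeal.primeCompl M' (σ (∑ l ∈ s, a l • m l)) := by
      rw [map_sum, map_sum]
      refine Finset.sum_congr rfl fun l _ => ?_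
      rw [← hσa, LocalizedModule.mkLinearMap_apply, LocalizedModule.mkLinearMap_apply,
        LocalizedModule.smul'_mk]
    rw [h1, IsLocalizedModule.eq_zero_iff q.1.asIdeal.primeCompl]
    refine ⟨⟨algebraMap R R' t'.val, ?_⟩, ?_⟩
    · intro hmem
      have : t'.val ∈ q.1.asIdeal.comap (algebraMap R R') := hmem
      rw [q.2.1] at this
      exact t'.2 this
    · change algebraMap R R' t'.val • σ _ = 0
      rw [algebraMap_smul, ← map_smul]
      have : t'.val • ∑ l ∈ s, a l • m l = 0 := ht'
      rw [this, map_zero]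
  · intro c hc
    refine key_indep p σ hσ hloc s m hind' c ?_
    intro q _ hq1 hq2
    exact hc ⟨⟨q, inferInstance⟩, hq1, hq2⟩

end Key

end Groth.Agent.H3.ArtFlat
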