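import Mathlib
import Groth.Agent.Lib.Helper3.ArtFlat.Main
import Groth.Agent.Lib.Helper1.ArtinFlattening
import Groth.Agent.Lib.Helper1.LocalCriterion

/-!
# Descent of flatness: relations modulo ideals (helper3)
-/

set_option autoImplicit false
open TensorProduct IsLocalRing

namespace Groth.Agent.H3.ArtFlat

universe u v w

section La'
variable {A' R' : Type*} [CommRing A'] [CommRing R'] [Algebra A' R'] (q : Ideal R') [q.IsPrime]
  {M' : Type*} [AddCommGroup M'] [Module R' M'] [Module A' M'] [IsScalarTower A' R' M']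

/-- converse of `exists_smul_mem_of_mk_mem`. -/
lemma mk_mem_of_smul_mem (I : Ideal A') (w : M') (t : R') (ht : t ∈ q.primeCompl)
    (h : t • w ∈ (I.map (algebraMap A' R')) • (⊤ : Submodule R' M')) :
    LocalizedModule.mkLinearMap q.primeCompl M' w ∈
      I • (⊤ : Submodule A' (LocalizedModule q.primeCompl M')) := by
  -- first: the image of `(I R') M'` lies in `I N`
  have h1 : ∀ z ∈ (I.map (algebraMap A' R')) • (⊤ : Submodule R' M'),
      LocalizedModule.mkLinearMap q.primeCompl M' z ∈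
        I • (⊤ : Submodule A' (LocalizedModule q.primeCompl M')) := by
    intro z hz
    refine Submodule.smul_induction_on hz ?_ ?_
    · intro r' hr' y _
      rw [map_smul]
      suffices h : ∀ n : LocalizedModule q.primeCompl M',
          r' • n ∈ I • (⊤ : Submodule A' (LocalizedModule q.primeCompl M')) from h _
      refine Submodule.span_induction (p := fun r' _ => ∀ n : LocalizedModule q.primeCompl M',
          r' • n ∈ I • (⊤ : Submodule A' (LocalizedModule q.primeCompl M'))) ?_ ?_ ?_ ?_ hr'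
      · rintro _ ⟨a', ha', rfl⟩ n
        rw [algebraMap_smul]
        exact Submodule.smul_mem_smul ha' trivial
      · intro n; rw [zero_smul]; exact Submodule.zero_mem _
      · intro r₁ r₂ _ _ h₁ h₂ n
        rw [add_smul]; exact Submodule.add_mem _ (h₁ n) (h₂ n)
      · intro b r₁ _ h₁ n
        rw [smul_eq_mul, mul_comm, mul_smul]
        exact h₁ _
    · intro y₁ y₂ h₁ h₂
      rw [map_add]; exact Submodule.add_mem _ h₁ h₂
  have h2 := h1 _ h
  rw [map_smul, ← algebraMap_smul (Localization.AtPrime q) t,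
    ← mem_map_smul_top_iff (B := Localization.AtPrime q)] at h2
  rw [← mem_map_smul_top_iff (B := Localization.AtPrime q)]
  have hu : IsUnit (algebraMap R' (Localization.AtPrime q) t) :=
    IsLocalization.map_units (Localization.AtPrime q) (⟨t, ht⟩ : q.primeCompl)
  have h3 := Submodule.smul_mem _ ((hu.unit⁻¹ : (Localization.AtPrime q)ˣ) :
    Localization.AtPrime q) h2
  rw [smul_smul] at h3
  have h4 : ((hu.unit⁻¹ : (Localization.AtPrime q)ˣ) : Localization.AtPrime q) *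
      algebraMap R' (Localization.AtPrime q) t = 1 := hu.val_inv_mul
  rwa [h4, one_smul] at h3

end La'

section Quot
variable {A' : Type*} [CommRing A'] (𝔟 : Ideal A')
  {N : Type*} [AddCommGroup N] [Module A' N]

lemma exists_tmul_eq (z : (A' ⧸ 𝔟) ⊗[A'] N) : ∃ n : N, z = (1 : A' ⧸ 𝔟) ⊗ₜ[A'] n := by
  induction z using TensorProduct.induction_on with
  | zero => exact ⟨0, by rw [TensorProduct.tmul_zero]⟩
  | add x y hx hy =>
    obtain ⟨n₁, rfl⟩ := hx
    obtain ⟨n₂, rfl⟩ := hy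
    exact ⟨n₁ + n₂, by rw [TensorProduct.tmul_add]⟩
  | tmul a n =>
    obtain ⟨a, rfl⟩ := Ideal.Quotient.mk_surjective a
    refine ⟨a • n, ?_⟩
    rw [TensorProduct.tmul_smul, TensorProduct.smul_tmul', Algebra.smul_def, mul_one]
    rfl

lemma mk_smul_one_tmul (a : A') (n : N) :
    (Ideal.Quotient.mk 𝔟 a) • ((1 : A' ⧸ 𝔟) ⊗ₜ[A'] n) = (1 : A' ⧸ 𝔟) ⊗ₜ[A'] (a • n) := by
  rw [TensorProduct.tmul_smul, TensorProduct.smul_tmul', TensorProduct.smul_tmul', smul_eq_mul,
    mul_one, Algebra.smul_def, mul_one]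
  rfl

lemma sum_mk_smul_one_tmul {J : Type*} (s : Finset J) (b : J → A') (x : J → N) :
    ∑ l ∈ s, (Ideal.Quotient.mk 𝔟 (b l)) • ((1 : A' ⧸ 𝔟) ⊗ₜ[A'] x l) =
      (1 : A' ⧸ 𝔟) ⊗ₜ[A'] (∑ l ∈ s, b l • x l) := by
  rw [TensorProduct.tmul_sum]
  exact Finset.sum_congr rfl fun l _ => mk_smul_one_tmul 𝔟 (b l) (x l)

lemma one_tmul_eq_zero_iff (n : N) :
    (1 : A' ⧸ 𝔟) ⊗ₜ[A'] n = 0 ↔ n ∈ 𝔟 • (⊤ : Submodule A' N) := by
  rw [← LinearMap.ker_tensorProductMk (I := 𝔟) (Q := N), LinearMap.mem_ker]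
  rfl

variable [IsLocalRing A']

lemma isLocalRing_quotient (h : 𝔟 ≤ maximalIdeal A') : IsLocalRing (A' ⧸ 𝔟) := by
  haveI : Nontrivial (A' ⧸ 𝔟) := Ideal.Quotient.nontrivial_iff.mpr (fun htop => by
    rw [htop] at h
    exact (IsLocalRing.maximalIdeal.isMaximal A').ne_top (top_le_iff.mp h))
  exact IsLocalRing.of_surjective' (Ideal.Quotient.mk 𝔟) Ideal.Quotient.mk_surjective

lemma mk_mem_maximalIdeal_iff [IsLocalRing (A' ⧸ 𝔟)] (h : 𝔟 ≤ maximalIdeal A') (a : A') :
    Ideal.Quotient.mk 𝔟 a ∈ maximalIdeal (A' ⧸ 𝔟) ↔ a ∈ maximalIdeal A' := by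
  haveI : IsLocalHom (Ideal.Quotient.mk 𝔟) := isLocalHom_of_le_jacobson_bot 𝔟 (by
    rw [IsLocalRing.jacobson_eq_maximalIdeal ⊥ bot_ne_top]; exact h)
  rw [mem_maximalIdeal, mem_maximalIdeal, mem_nonunits_iff, mem_nonunits_iff, not_iff_not]
  exact isUnit_map_iff (Ideal.Quotient.mk 𝔟) a

lemma maximalIdeal_quotient_eq [IsLocalRing (A' ⧸ 𝔟)] (h : 𝔟 ≤ maximalIdeal A') :
    maximalIdeal (A' ⧸ 𝔟) = (maximalIdeal A').map (Ideal.Quotient.mk 𝔟) := by
  ext z
  obtain ⟨r, rfl⟩ := Ideal.Quotient.mk_surjective z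
  rw [mk_mem_maximalIdeal_iff 𝔟 h]
  constructor
  · intro hr; exact Ideal.mem_map_of_mem _ hr
  · intro hr
    rw [Ideal.mem_map_iff_of_surjective _ Ideal.Quotient.mk_surjective] at hr
    obtain ⟨r', hr', hrr'⟩ := hr
    have : r - r' ∈ 𝔟 := by
      rw [← Ideal.Quotient.eq]; exact hrr'.symm
    have h2 := Ideal.add_mem _ (h this) hr'
    rwa [sub_add_cancel] at h2

lemma isNilpotent_maximalIdeal_quotient [IsLocalRing (A' ⧸ 𝔟)] (h : 𝔟 ≤ maximalIdeal A')
    (K : ℕ) (hK : maximalIdeal A' ^ K ≤ 𝔟) : IsNilpotent (maximalIdeal (A' ⧸ 𝔟)) := by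
  refine ⟨K, ?_⟩
  rw [maximalIdeal_quotient_eq 𝔟 h, ← Ideal.map_pow, Ideal.zero_eq_bot, eq_bot_iff]
  refine (Ideal.map_mono hK).trans ?_
  rw [Ideal.map_quotient_self]

lemma one_tmul_mem_iff [IsLocalRing (A' ⧸ 𝔟)] (h : 𝔟 ≤ maximalIdeal A') (n : N) :
    (1 : A' ⧸ 𝔟) ⊗ₜ[A'] n ∈ maximalIdeal (A' ⧸ 𝔟) • (⊤ : Submodule (A' ⧸ 𝔟) ((A' ⧸ 𝔟) ⊗[A'] N)) ↔
      n ∈ maximalIdeal A' • (⊤ : Submodule A' N) := by
  constructor
  · intro hn
    have key : ∀ z ∈ maximalIdeal (A' ⧸ 𝔟) • (⊤ : Submodule (A' ⧸ 𝔟) ((A' ⧸ 𝔟) ⊗[A'] N)),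
        ∃ n' ∈ maximalIdeal A' • (⊤ : Submodule A' N), z = (1 : A' ⧸ 𝔟) ⊗ₜ[A'] n' := by
      intro z hz
      refine Submodule.smul_induction_on hz ?_ ?_
      · intro r hr z' _
        obtain ⟨r, rfl⟩ := Ideal.Quotient.mk_surjective r
        obtain ⟨n'', rfl⟩ := exists_tmul_eq 𝔟 z'
        rw [mk_mem_maximalIdeal_iff 𝔟 h] at hr
        exact ⟨r • n'', Submodule.smul_mem_smul hr trivial, mk_smul_one_tmul 𝔟 r n''⟩
      · rintro _ _ ⟨n₁, hn₁, rfl⟩ ⟨n₂, hn₂, rfl⟩
        exact ⟨n₁ + n₂, Submodule.add_mem _ hn₁ hn₂, (TensorProduct.tmul_add _ _ _).symm⟩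
    obtain ⟨n', hn', heq⟩ := key _ hn
    have h0 : (1 : A' ⧸ 𝔟) ⊗ₜ[A'] (n - n') = 0 := by
      rw [TensorProduct.tmul_sub, heq, sub_self]
    rw [one_tmul_eq_zero_iff] at h0
    have h1 : n - n' ∈ maximalIdeal A' • (⊤ : Submodule A' N) :=
      Submodule.smul_mono_left h h0
    have h2 := Submodule.add_mem _ h1 hn'
    rwa [sub_add_cancel] at h2
  · intro hn
    refine Submodule.smul_induction_on hn ?_ ?_
    · intro r hr n' _
      rw [← mk_smul_one_tmul]
      exact Submodule.smul_mem_smul ((mk_mem_maximalIdeal_iff 𝔟 h r).mpr hr) trivial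
    · intro n₁ n₂ h₁ h₂
      rw [TensorProduct.tmul_add]
      exact Submodule.add_mem _ h₁ h₂

end Quot


section KeyD
variable {A R A' R' : Type u} [CommRing A] [IsLocalRing A] [CommRing R] [Algebra A R]
  [IsNoetherianRing R]
  [CommRing A'] [IsLocalRing A'] [Algebra A A'] [CommRing R'] [Algebra R R'] [Algebra A' R']
  [Algebra A R'] [IsScalarTower A R R'] [IsScalarTower A A' R'] [Algebra.IsPushout A A' R R']
  (p : Ideal R) [p.IsPrime]
  {M₀ M' : Type u} [AddCommGroup M₀] [Module R M₀] [Module A M₀] [IsScalarTower A R M₀]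
  [Module.Finite R M₀]
  [AddCommGroup M'] [Module R' M'] [Module R M'] [IsScalarTower R R' M'] [Module A' M']
  [IsScalarTower A' R' M']
  (σ : M₀ →ₗ[R] M') (hσ : IsBaseChange R' σ)

include hσ in
/-- **single test algebra, relative version**: an `A`-relation modulo `𝔞` among elements of
`(M₀)_p` independent modulo `m` has coefficients landing in `𝔟 ⊇ 𝔞 A'`, provided the base change
of `M₀` is `A'`-flat at all primes above `p` and the closed point. -/
theorem algebraMap_mem_of_relation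
    (hloc : ∀ a ∈ maximalIdeal A, algebraMap A A' a ∈ maximalIdeal A')
    (𝔞 : Ideal A) (𝔟 : Ideal A') (h𝔞𝔟 : 𝔞.map (algebraMap A A') ≤ 𝔟) (h𝔟 : 𝔟 ≤ maximalIdeal A')
    (hflat : ∀ (q : Ideal R') [q.IsPrime], q.comap (algebraMap R R') = p →
      q.comap (algebraMap A' R') = maximalIdeal A' →
      Module.Flat A' (LocalizedModule q.primeCompl M'))
    {J : Type*} (s : Finset J) (x : J → LocalizedModule p.primeCompl M₀) (a : J → A)
    (hind : ∀ b : J → A, ∑ l ∈ s, b l • x l ∈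
      maximalIdeal A • (⊤ : Submodule A (LocalizedModule p.primeCompl M₀)) →
        ∀ l ∈ s, b l ∈ maximalIdeal A)
    (hrel : ∑ l ∈ s, a l • x l ∈ 𝔞 • (⊤ : Submodule A (LocalizedModule p.primeCompl M₀))) :
    ∀ l ∈ s, algebraMap A A' (a l) ∈ 𝔟 := by
  classical
  obtain ⟨t, ht⟩ := IsLocalizedModule.exist_integer_multiples p.primeCompl
    (LocalizedModule.mkLinearMap p.primeCompl M₀) s x
  have hex : ∀ l, ∃ ml : M₀, l ∈ s →
      LocalizedModule.mkLinearMap p.primeCompl M₀ ml = t.val • x l := by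
    intro l
    by_cases hl : l ∈ s
    · obtain ⟨ml, hml⟩ := ht l hl
      exact ⟨ml, fun _ => hml⟩
    · exact ⟨0, fun h => absurd h hl⟩
  choose m hm using hex
  have hsum : ∀ b : J → A, ∑ l ∈ s, b l • LocalizedModule.mkLinearMap p.primeCompl M₀ (m l) =
      t.val • ∑ l ∈ s, b l • x l := by
    intro b
    rw [Finset.smul_sum]
    refine Finset.sum_congr rfl fun l hl => ?_
    rw [hm l hl, smul_comm]
  have hu : IsUnit (algebraMap R (Localization.AtPrime p) t.val) :=
    IsLocalization.map_units (Localization.AtPrime p) t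
  -- independence of the numerators
  have hind' : ∀ b : J → A,
      (∑ l ∈ s, b l • LocalizedModule.mkLinearMap p.primeCompl M₀ (m l)) ∈
        maximalIdeal A • (⊤ : Submodule A (LocalizedModule p.primeCompl M₀)) →
          ∀ l ∈ s, b l ∈ maximalIdeal A := by
    intro b hb
    apply hind b
    rw [hsum b, ← mem_map_smul_top_iff (B := Localization.AtPrime p),
      ← algebraMap_smul (Localization.AtPrime p) t.val] at hb
    rw [← mem_map_smul_top_iff (B := Localization.AtPrime p)]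
    have := Submodule.smul_mem _ ((hu.unit⁻¹ : (Localization.AtPrime p)ˣ) :
      Localization.AtPrime p) hb
    rw [smul_smul] at this
    have h1 : ((hu.unit⁻¹ : (Localization.AtPrime p)ˣ) : Localization.AtPrime p) *
        algebraMap R (Localization.AtPrime p) t.val = 1 := hu.val_inv_mul
    rwa [h1, one_smul] at this
  -- the relation among numerators
  set w₀ : M₀ := ∑ l ∈ s, a l • m l with hw₀
  have hrel' : LocalizedModule.mkLinearMap p.primeCompl M₀ w₀ ∈
      𝔞 • (⊤ : Submodule A (LocalizedModule p.primeCompl M₀)) := by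
    have h1 : LocalizedModule.mkLinearMap p.primeCompl M₀ w₀ = t.val • ∑ l ∈ s, a l • x l := by
      rw [← hsum a, hw₀, map_sum]
      refine Finset.sum_congr rfl fun l _ => ?_
      rw [LinearMap.map_smul_of_tower]
    rw [h1, ← mem_map_smul_top_iff (B := Localization.AtPrime p),
      ← algebraMap_smul (Localization.AtPrime p) t.val]
    exact Submodule.smul_mem _ _ ((mem_map_smul_top_iff (B := Localization.AtPrime p) _ _).mpr hrel)
  obtain ⟨t', ht'p, ht'⟩ := exists_smul_mem_of_mk_mem p 𝔞 w₀ hrel'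
  -- push to `M'`
  have hpush : ∀ z ∈ (𝔞.map (algebraMap A R)) • (⊤ : Submodule R M₀),
      σ z ∈ (𝔟.map (algebraMap A' R')) • (⊤ : Submodule R' M') := by
    intro z hz
    refine Submodule.smul_induction_on hz ?_ ?_
    · intro r hr y _
      rw [map_smul, ← algebraMap_smul R' r (σ y)]
      refine Submodule.smul_mem_smul ?_ trivial
      have h1 : algebraMap R R' r ∈ (𝔞.map (algebraMap A R)).map (algebraMap R R') :=
        Ideal.mem_map_of_mem _ hr
      rw [Ideal.map_map, ← IsScalarTower.algebraMap_eq, IsScalarTower.algebraMap_eq A A' R',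
        ← Ideal.map_map] at h1
      exact Ideal.map_mono h𝔞𝔟 h1
    · intro y z hy hz
      rw [map_add]; exact Submodule.add_mem _ hy hz
  -- the index set of test primes
  let Q := {q : PrimeSpectrum R' // q.asIdeal.comap (algebraMap R R') = p ∧
    q.asIdeal.comap (algebraMap A' R') = maximalIdeal A'}
  haveI : ∀ q : Q, Module.Flat A' (LocalizedModule q.1.asIdeal.primeCompl M') :=
    fun q => hflat q.1.asIdeal q.2.1 q.2.2
  have hσa : ∀ (a₀ : A) (z : M₀), algebraMap A A' a₀ • σ z = σ (a₀ • z) := by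
    intro a₀ z
    rw [← algebraMap_smul R' (algebraMap A A' a₀), ← IsScalarTower.algebraMap_apply A A' R',
      IsScalarTower.algebraMap_apply A R R', algebraMap_smul, ← algebraMap_smul R a₀ z, map_smul]
  haveI : IsLocalRing (A' ⧸ 𝔟) := isLocalRing_quotient 𝔟 h𝔟
  have key := mli (R := A' ⧸ 𝔟) (Q := Q)
    (fun q => (A' ⧸ 𝔟) ⊗[A'] (LocalizedModule q.1.asIdeal.primeCompl M')) s
    (fun l => Ideal.Quotient.mk 𝔟 (algebraMap A A' (a l)))
    (fun q l => (1 : A' ⧸ 𝔟) ⊗ₜ[A']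
      LocalizedModule.mkLinearMap q.1.asIdeal.primeCompl M' (σ (m l))) ?_ ?_
  · intro l hl
    exact Ideal.Quotient.eq_zero_iff_mem.mp (key l hl)
  · intro q
    have h1 : ∑ l ∈ s, algebraMap A A' (a l) •
        LocalizedModule.mkLinearMap q.1.asIdeal.primeCompl M' (σ (m l)) =
        LocalizedModule.mkLinearMap q.1.asIdeal.primeCompl M' (σ w₀) := by
      rw [hw₀, map_sum, map_sum]
      refine Finset.sum_congr rfl fun l _ => ?_
      rw [← hσa, LocalizedModule.mkLinearMap_apply, LocalizedModule.mkLinearMap_apply,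
        LocalizedModule.smul'_mk]
    rw [sum_mk_smul_one_tmul, one_tmul_eq_zero_iff, h1]
    refine mk_mem_of_smul_mem q.1.asIdeal 𝔟 (σ w₀) (algebraMap R R' t') ?_ ?_
    · intro hmem
      have : t' ∈ q.1.asIdeal.comap (algebraMap R R') := hmem
      rw [q.2.1] at this
      exact ht'p this
    · rw [algebraMap_smul, ← map_smul]
      exact hpush _ ht'
  · intro cb hcb
    choose c hc using fun l => Ideal.Quotient.mk_surjective (cb l)
    have hcm : ∀ l ∈ s, c l ∈ maximalIdeal A' := by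
      refine key_indep p σ hσ hloc s m hind' c ?_
      intro q _ hq1 hq2
      have h2 := hcb ⟨⟨q, inferInstance⟩, hq1, hq2⟩
      have h3 : ∀ l, cb l = Ideal.Quotient.mk 𝔟 (c l) := fun l => (hc l).symm
      simp only [h3] at h2
      rw [sum_mk_smul_one_tmul, one_tmul_mem_iff 𝔟 h𝔟] at h2
      exact h2
    intro l hl
    rw [← hc l, mk_mem_maximalIdeal_iff 𝔟 h𝔟]
    exact hcm l hl

end KeyD

section LemF

/-- flatness from "relations modulo a cofinal family of `m`-primary ideals are trivial". -/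
theorem flat_of_forall_relation_mod {A : Type u} [CommRing A] [IsLocalRing A] [IsNoetherianRing A]
    {B : Type u} [CommRing B] [IsNoetherianRing B] [Algebra A B]
    {M : Type u} [AddCommGroup M] [Module A M] [Module B M] [IsScalarTower A B M]
    [Module.Finite B M]
    (hAB : (maximalIdeal A).map (algebraMap A B) ≤ Ideal.jacobson ⊥)
    (H : ∀ N : ℕ, ∃ 𝔞 : Ideal A, 𝔞 ≤ maximalIdeal A ^ N ∧ (∃ K, maximalIdeal A ^ K ≤ 𝔞) ∧
      ∀ (J : Type u) (s : Finset J) (x : J → M) (a : J → A),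
      (∀ b : J → A, ∑ l ∈ s, b l • x l ∈ maximalIdeal A • (⊤ : Submodule A M) →
        ∀ l ∈ s, b l ∈ maximalIdeal A) →
      ∑ l ∈ s, a l • x l ∈ 𝔞 • (⊤ : Submodule A M) → ∀ l ∈ s, a l ∈ 𝔞) :
    Module.Flat A M := by
  refine Groth.Agent.H1.flat_of_forall_flat_quotient_pow (B := B) (maximalIdeal A) hAB ?_
  intro n hn
  obtain ⟨𝔞, h𝔞n, ⟨K, hK⟩, H𝔞⟩ := H n
  have h𝔞m : 𝔞 ≤ maximalIdeal A := h𝔞n.trans (Ideal.pow_le_self hn.ne')
  refine Groth.Agent.H1.ArtinFlattening.flat_of_mem_flatSet M (K := 𝔞) ?_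
    (A ⧸ maximalIdeal A ^ n) ?_
  · change Module.Flat (A ⧸ 𝔞) ((A ⧸ 𝔞) ⊗[A] M)
    haveI := isLocalRing_quotient 𝔞 h𝔞m
    have hnil : IsNilpotent (maximalIdeal (A ⧸ 𝔞)) :=
      isNilpotent_maximalIdeal_quotient 𝔞 h𝔞m K hK
    apply flat_of_forall_relation hnil
    intro J s xb ab hind hrel
    choose x hx using fun l => exists_tmul_eq 𝔞 (xb l)
    choose a ha using fun l => Ideal.Quotient.mk_surjective (ab l)
    have hx' : xb = fun l => (1 : A ⧸ 𝔞) ⊗ₜ[A] x l := funext hx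
    have ha' : ab = fun l => Ideal.Quotient.mk 𝔞 (a l) := funext fun l => (ha l).symm
    subst hx' ha'
    have h1 : ∀ l ∈ s, a l ∈ 𝔞 := by
      apply H𝔞 J s x a
      · intro b hb l hl
        rw [← mk_mem_maximalIdeal_iff 𝔞 h𝔞m]
        refine hind (fun l => Ideal.Quotient.mk 𝔞 (b l)) ?_ l hl
        rw [sum_mk_smul_one_tmul, one_tmul_mem_iff 𝔞 h𝔞m]
        exact hb
      · rw [sum_mk_smul_one_tmul, one_tmul_eq_zero_iff] at hrel
        exact hrel
    intro l hl
    exact Ideal.Quotient.eq_zero_iff_mem.mpr (h1 l hl)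
  · rw [Ideal.Quotient.algebraMap_eq, Ideal.mk_ker]
    exact h𝔞n

end LemF

end Groth.Agent.H3.ArtFlat
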