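import Mathlib
import Groth.Agent.Lib.Helper3.ArtFlat.Main2
import Groth.Agent.Lib.Helper3.PrimTensor

/-!
# Descent of flatness with one flat point in a primary fibre: algebra (helper3)
-/

set_option autoImplicit false
open TensorProduct IsLocalRing

namespace Groth.Agent.H3.ArtFlat

universe u v w

section gen
variable {S : Type*} [CommRing S] {M N : Type*} [AddCommGroup M] [Module S M] [AddCommGroup N]
  [Module S N]

lemma map_mem_smul_top (I : Ideal S) (e : M →ₗ[S] N) {x : M}
    (hx : x ∈ I • (⊤ : Submodule S M)) : e x ∈ I • (⊤ : Submodule S N) := by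
  have := Submodule.mem_map_of_mem (f := e) hx
  rw [Submodule.map_smul''] at this
  exact Submodule.smul_mono le_rfl le_top this

lemma mem_smul_top_finsupp_iff {J : Type*} (I : Ideal S) (f : J →₀ N) :
    f ∈ I • (⊤ : Submodule S (J →₀ N)) ↔ ∀ j, f j ∈ I • (⊤ : Submodule S N) := by
  classical
  constructor
  · intro hf j
    exact map_mem_smul_top I (Finsupp.lapply j) hf
  · intro hf
    rw [← Finsupp.sum_single f]
    refine Submodule.sum_mem _ fun j _ => ?_
    exact map_mem_smul_top I (Finsupp.lsingle j) (hf j)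

end gen

section StepA
variable {A R A' R' : Type u} [CommRing A] [IsLocalRing A] [CommRing R] [Algebra A R]
  [CommRing A'] [IsLocalRing A'] [Algebra A A'] [CommRing R'] [Algebra R R'] [Algebra A' R']
  [Algebra A R'] [IsScalarTower A R R'] [IsScalarTower A A' R'] [Algebra.IsPushout A A' R R']

variable (R A' R') in
/-- the submodule `(m' R') (R' ⊗ Y)`. -/
abbrev NN (Y : Type*) [AddCommGroup Y] [Module R Y] : Submodule R' (R' ⊗[R] Y) :=
  ((maximalIdeal A').map (algebraMap A' R')) • ⊤

variable (R A') in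
/-- `t` is a nonzerodivisor on `(R' ⊗ Y) / (m' R') (R' ⊗ Y)`. -/
def NZ (t : R') (Y : Type*) [AddCommGroup Y] [Module R Y] : Prop :=
  ∀ z : R' ⊗[R] Y, t • z ∈ NN R A' R' Y → z ∈ NN R A' R' Y

variable {Y₁ Y₂ : Type*} [AddCommGroup Y₁] [Module R Y₁] [AddCommGroup Y₂] [Module R Y₂]

lemma baseChange_mem_NN (g : Y₁ →ₗ[R] Y₂) (z : R' ⊗[R] Y₁) (hz : z ∈ NN R A' R' Y₁) :
    g.baseChange R' z ∈ NN R A' R' Y₂ := by
  have := Submodule.mem_map_of_mem (f := g.baseChange R') hz
  rw [Submodule.map_smul''] at this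
  exact Submodule.smul_mono le_rfl le_top this

lemma exists_mem_NN_baseChange_eq (g : Y₁ →ₗ[R] Y₂) (hg : Function.Surjective g)
    (w : R' ⊗[R] Y₂) (hw : w ∈ NN R A' R' Y₂) :
    ∃ z ∈ NN R A' R' Y₁, g.baseChange R' z = w := by
  have hs : Function.Surjective (g.baseChange R') := by
    rw [LinearMap.baseChange_eq_ltensor]
    exact LinearMap.lTensor_surjective R' hg
  have h1 : Submodule.map (g.baseChange R') (NN R A' R' Y₁) = NN R A' R' Y₂ := by
    rw [Submodule.map_smul'', Submodule.map_top, LinearMap.range_eq_top.mpr hs]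
  rw [← h1] at hw
  exact hw

section retr
variable {Y Y' : Type u} [AddCommGroup Y] [Module R Y] [Module A Y] [IsScalarTower A R Y]
  [AddCommGroup Y'] [Module R Y'] [Module A Y'] [IsScalarTower A R Y']

/-- an `A`-linear retraction of `ι` shows that `R' ⊗ Y' → R' ⊗ Y` is injective modulo `m'`. -/
lemma mem_NN_of_baseChange_mem (ι : Y' →ₗ[R] Y) (ρ : Y →ₗ[A] Y') (hρ : ∀ y, ρ (ι y) = y)
    (z' : R' ⊗[R] Y') (h : ι.baseChange R' z' ∈ NN R A' R' Y) : z' ∈ NN R A' R' Y' := by
  let γ := Algebra.IsPushout.cancelBaseChange A A' R R' Y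
  let γ' := Algebra.IsPushout.cancelBaseChange A A' R R' Y'
  let ρ' : R' ⊗[R] Y →ₗ[A'] R' ⊗[R] Y' :=
    γ'.symm.toLinearMap ∘ₗ (ρ.baseChange A') ∘ₗ γ.toLinearMap
  have h1 : ∀ z' : R' ⊗[R] Y', ρ' (ι.baseChange R' z') = z' := by
    intro z'
    obtain ⟨w, rfl⟩ := γ'.symm.surjective z'
    induction w using TensorProduct.induction_on with
    | zero => simp only [map_zero]
    | add x y hx hy => simp only [map_add, hx, hy]
    | tmul a' y' =>
      have e1 : γ'.symm (a' ⊗ₜ[A] y') = algebraMap A' R' a' ⊗ₜ[R] y' :=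
        Algebra.IsPushout.cancelBaseChange_symm_tmul A A' R R' Y' a' y'
      have e2 : γ (algebraMap A' R' a' ⊗ₜ[R] ι y') = a' ⊗ₜ[A] ι y' := by
        rw [← Algebra.IsPushout.cancelBaseChange_symm_tmul A A' R R' Y a' (ι y')]
        exact γ.apply_symm_apply _
      change γ'.symm ((ρ.baseChange A') (γ (ι.baseChange R' (γ'.symm (a' ⊗ₜ[A] y'))))) = _
      rw [e1, LinearMap.baseChange_tmul, e2, LinearMap.baseChange_tmul, hρ, e1]
  have h2 := (mem_map_smul_top_iff (B := R') (maximalIdeal A') _).mp h
  have h3 : ρ' (ι.baseChange R' z') ∈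
      maximalIdeal A' • (⊤ : Submodule A' (R' ⊗[R] Y')) := by
    have := Submodule.mem_map_of_mem (f := ρ') h2
    rw [Submodule.map_smul''] at this
    exact Submodule.smul_mono le_rfl le_top this
  rw [h1] at h3
  exact (mem_map_smul_top_iff (B := R') (maximalIdeal A') _).mpr h3

end retr

section dev
variable {Y Y' Y'' : Type u} [AddCommGroup Y] [Module R Y] [AddCommGroup Y'] [Module R Y']
  [AddCommGroup Y''] [Module R Y'']

/-- existence of an `A`-linear retraction for modules killed by the maximal ideal. -/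
lemma exists_retraction [Module A Y] [IsScalarTower A R Y] [Module A Y'] [IsScalarTower A R Y']
    (ι : Y' →ₗ[R] Y) (hι : Function.Injective ι)
    (hm : ∀ a ∈ maximalIdeal A, ∀ y : Y, a • y = 0)
    (hm' : ∀ a ∈ maximalIdeal A, ∀ y : Y', a • y = 0) :
    ∃ ρ : Y →ₗ[A] Y', ∀ y, ρ (ι y) = y := by
  have htors : Module.IsTorsionBySet A Y (maximalIdeal A : Set A) := by
    rintro y ⟨a, ha⟩
    exact hm a ha y
  have htors' : Module.IsTorsionBySet A Y' (maximalIdeal A : Set A) := by
    rintro y ⟨a, ha⟩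
    exact hm' a ha y
  letI : Field (A ⧸ maximalIdeal A) := Ideal.Quotient.field _
  letI : Module (A ⧸ maximalIdeal A) Y := htors.module
  haveI : IsScalarTower A (A ⧸ maximalIdeal A) Y := htors.isScalarTower
  letI : Module (A ⧸ maximalIdeal A) Y' := htors'.module
  haveI : IsScalarTower A (A ⧸ maximalIdeal A) Y' := htors'.isScalarTower
  let ιk : Y' →ₗ[A ⧸ maximalIdeal A] Y :=
    { toFun := ι
      map_add' := ι.map_add
      map_smul' := by
        intro c y
        obtain ⟨a, rfl⟩ := Ideal.Quotient.mk_surjective c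
        change ι ((Ideal.Quotient.mk (maximalIdeal A) a) • y) =
          (Ideal.Quotient.mk (maximalIdeal A) a) • ι y
        rw [Module.IsTorsionBySet.mk_smul htors', Module.IsTorsionBySet.mk_smul htors,
          ← algebraMap_smul R a y, map_smul, algebraMap_smul] }
  have hker : LinearMap.ker ιk = ⊥ := LinearMap.ker_eq_bot.mpr hι
  obtain ⟨g, hg⟩ := LinearMap.exists_leftInverse_of_injective ιk hker
  refine ⟨g.restrictScalars A, fun y => ?_⟩
  exact LinearMap.congr_fun hg y

/-- **dévissage**: the property `NZ` passes to extensions of modules killed by `m`. -/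
theorem NZ_of_exact (t : R') (ι : Y' →ₗ[R] Y) (π : Y →ₗ[R] Y'') (hι : Function.Injective ι)
    (hπ : Function.Surjective π) (hex : Function.Exact ι π)
    (hm : ∀ a ∈ maximalIdeal A, ∀ y : Y, algebraMap A R a • y = 0)
    (h' : NZ R A' t Y') (h'' : NZ R A' t Y'') : NZ R A' t Y := by
  letI : Module A Y := Module.compHom Y (algebraMap A R)
  haveI : IsScalarTower A R Y := ⟨fun a r y => by
    change (a • r) • y = algebraMap A R a • (r • y)
    rw [Algebra.smul_def, mul_smul]⟩
  letI : Module A Y' := Module.compHom Y' (algebraMap A R)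
  haveI : IsScalarTower A R Y' := ⟨fun a r y => by
    change (a • r) • y = algebraMap A R a • (r • y)
    rw [Algebra.smul_def, mul_smul]⟩
  have hm' : ∀ a ∈ maximalIdeal A, ∀ y : Y', a • y = 0 := by
    intro a ha y
    apply hι
    change ι (algebraMap A R a • y) = ι 0
    rw [map_smul, hm a ha, map_zero]
  obtain ⟨ρ, hρ⟩ := exists_retraction (A := A) ι hι (fun a ha y => hm a ha y) hm'
  intro z hz
  -- image in `Y''`
  have h1 : π.baseChange R' z ∈ NN R A' R' Y'' := by
    apply h''
    rw [← map_smul]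
    exact baseChange_mem_NN π _ hz
  obtain ⟨z₁, hz₁, hz₁'⟩ := exists_mem_NN_baseChange_eq π hπ _ h1
  have h2 : π.baseChange R' (z - z₁) = 0 := by rw [map_sub, hz₁', sub_self]
  have hex' : Function.Exact (ι.baseChange R') (π.baseChange R') := by
    rw [LinearMap.baseChange_eq_ltensor, LinearMap.baseChange_eq_ltensor]
    exact lTensor_exact R' hex hπ
  obtain ⟨z', hz'⟩ := (hex' _).mp h2
  have h3 : ι.baseChange R' (t • z') ∈ NN R A' R' Y := by
    rw [map_smul, hz', smul_sub]
    exact Submodule.sub_mem _ hz (Submodule.smul_mem _ _ hz₁)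
  have h4 : t • z' ∈ NN R A' R' Y' := mem_NN_of_baseChange_mem ι ρ hρ _ h3
  have h5 : z' ∈ NN R A' R' Y' := h' z' h4
  have h6 : z - z₁ ∈ NN R A' R' Y := by
    rw [← hz']
    exact baseChange_mem_NN ι _ h5
  have := Submodule.add_mem _ h6 hz₁
  rwa [sub_add_cancel] at this

end dev

section StepB
variable (K : Type u) [Field K] [Algebra R K]
  {Y : Type u} [AddCommGroup Y] [Module R Y] [Module K Y] [IsScalarTower R K Y]

/-- `NZ` for a vector space over `K` follows from `NZ` for `K`. -/
theorem NZ_of_vectorSpace (t : R') (hK : NZ R A' t K) : NZ R A' t Y := by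
  classical
  let b := Module.Free.chooseBasis K Y
  let φ : Y ≃ₗ[R] (Module.Free.ChooseBasisIndex K Y →₀ K) := b.repr.restrictScalars R
  let Φ : R' ⊗[R] Y ≃ₗ[R'] (Module.Free.ChooseBasisIndex K Y →₀ R' ⊗[R] K) :=
    (TensorProduct.AlgebraTensorModule.congr (LinearEquiv.refl R' R') φ) ≪≫ₗ
      (TensorProduct.finsuppRight R R' R' K _)
  intro z hz
  have h1 : Φ (t • z) ∈ ((maximalIdeal A').map (algebraMap A' R')) •
      (⊤ : Submodule R' (Module.Free.ChooseBasisIndex K Y →₀ R' ⊗[R] K)) :=
    map_mem_smul_top _ Φ.toLinearMap hz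
  rw [map_smul, mem_smul_top_finsupp_iff] at h1
  have h2 : Φ z ∈ ((maximalIdeal A').map (algebraMap A' R')) •
      (⊤ : Submodule R' (Module.Free.ChooseBasisIndex K Y →₀ R' ⊗[R] K)) := by
    rw [mem_smul_top_finsupp_iff]
    intro j
    apply hK
    have := h1 j
    rwa [Finsupp.smul_apply] at this
  have h3 := map_mem_smul_top _ Φ.symm.toLinearMap h2
  rwa [LinearEquiv.coe_coe, LinearEquiv.symm_apply_apply] at h3

end StepB

end StepA

section StepC
variable {A R A' R' : Type u} [CommRing A] [IsLocalRing A] [CommRing R] [Algebra A R]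
  [CommRing A'] [IsLocalRing A'] [Algebra A A'] [CommRing R'] [Algebra R R'] [Algebra A' R']
  [Algebra A R'] [IsScalarTower A R R'] [IsScalarTower A A' R'] [Algebra.IsPushout A A' R R']
  (p : Ideal R) [p.IsPrime] [IsLocalHom (algebraMap A A')]
  [IsLocalHom (algebraMap A (Localization.AtPrime p))]

instance compat1 : TensorProduct.CompatibleSMul A (ResidueField A) (ResidueField A')
    p.ResidueField :=
  ⟨fun c x y => by
    obtain ⟨a, rfl⟩ := IsLocalRing.residue_surjective c
    have h1 : residue A a • x = a • x := by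
      rw [← algebraMap_smul (ResidueField A) a x]; rfl
    have h2 : residue A a • y = a • y := by
      rw [← algebraMap_smul (ResidueField A) a y]; rfl
    rw [h1, h2]
    exact TensorProduct.smul_tmul _ _ _⟩

/-- the ring homomorphism `R' ⊗ κ(p) → k' ⊗[A] κ(p)` -/
noncomputable def chi : R' ⊗[R] p.ResidueField →+* (ResidueField A') ⊗[A] p.ResidueField :=
  ((Algebra.TensorProduct.map (IsScalarTower.toAlgHom A A' (ResidueField A'))
    (AlgHom.id A p.ResidueField)) : A' ⊗[A] p.ResidueField →+* _).comp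
    ((Algebra.IsPushout.cancelBaseChangeAlg A A' R R' p.ResidueField : _ ≃ₐ[A'] _) :
      R' ⊗[R] p.ResidueField →+* A' ⊗[A] p.ResidueField)

lemma chi_eq_zero_iff (x : R' ⊗[R] p.ResidueField) :
    chi (A := A) (A' := A') p x = 0 ↔
      x ∈ (maximalIdeal A').map (algebraMap A' (R' ⊗[R] p.ResidueField)) := by
  set e1 : R' ⊗[R] p.ResidueField ≃ₐ[A'] A' ⊗[A] p.ResidueField :=
    Algebra.IsPushout.cancelBaseChangeAlg A A' R R' p.ResidueField with he1
  set g : A' →ₐ[A] ResidueField A' := IsScalarTower.toAlgHom A A' (ResidueField A') with hg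
  have hgs : Function.Surjective g := IsLocalRing.residue_surjective
  have hker : RingHom.ker (Algebra.TensorProduct.map g (AlgHom.id A p.ResidueField)) =
      (RingHom.ker g).map (Algebra.TensorProduct.includeLeft : A' →ₐ[A] A' ⊗[A] p.ResidueField) :=
    Algebra.TensorProduct.rTensor_ker g hgs
  have hkg : RingHom.ker g = maximalIdeal A' := by
    ext a
    rw [RingHom.mem_ker]
    exact IsLocalRing.residue_eq_zero_iff a
  change (Algebra.TensorProduct.map g (AlgHom.id A p.ResidueField)) (e1 x) = 0 ↔ _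
  rw [← RingHom.mem_ker, hker, hkg]
  have h1 : (maximalIdeal A').map (algebraMap A' (A' ⊗[A] p.ResidueField)) =
      ((maximalIdeal A').map (algebraMap A' (R' ⊗[R] p.ResidueField))).map
        (e1 : R' ⊗[R] p.ResidueField →+* A' ⊗[A] p.ResidueField) := by
    rw [Ideal.map_map]
    congr 1
    ext a
    exact (e1.commutes a).symm
  have h2 : (Ideal.map (Algebra.TensorProduct.includeLeft : A' →ₐ[A] A' ⊗[A] p.ResidueField)
      (maximalIdeal A')) = (maximalIdeal A').map (algebraMap A' (A' ⊗[A] p.ResidueField)) := rfl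
  rw [h2, h1]
  constructor
  · intro hx
    have := Ideal.mem_map_of_mem (e1.symm : A' ⊗[A] p.ResidueField →+* R' ⊗[R] p.ResidueField) hx
    rw [Ideal.map_map] at this
    have hid : ((e1.symm : A' ⊗[A] p.ResidueField →+* R' ⊗[R] p.ResidueField).comp
        (e1 : R' ⊗[R] p.ResidueField →+* A' ⊗[A] p.ResidueField)) = RingHom.id _ := by
      ext y <;> simp
    rw [hid, Ideal.map_id] at this
    simpa using this
  · intro hx
    exact Ideal.mem_map_of_mem _ hx

/-- the ring homomorphism `R' ⊗ κ(p) → κ(q₀)` for a prime `q₀` above `p`. -/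
noncomputable def psi (q₀ : Ideal R') [q₀.IsPrime] (hq1 : q₀.comap (algebraMap R R') = p) :
    R' ⊗[R] p.ResidueField →ₐ[R'] q₀.ResidueField :=
  Algebra.TensorProduct.lift (Algebra.ofId R' q₀.ResidueField)
    (Ideal.ResidueField.mapₐ p q₀ (Algebra.ofId R R') hq1.symm)
    (fun _ _ => Commute.all _ _)

theorem NZ_residueField
    (hprim : ∀ a : p.ResidueField, IsSeparable (ResidueField A) a →
      a ∈ (algebraMap (ResidueField A) p.ResidueField).range)
    (q₀ : Ideal R') [q₀.IsPrime] (hq1 : q₀.comap (algebraMap R R') = p)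
    (hq2 : (maximalIdeal A').map (algebraMap A' R') ≤ q₀)
    (t : R') (ht : t ∉ q₀) : NZ R A' t p.ResidueField := by
  intro z hz
  -- membership in `NN` is vanishing under `chi`
  have hNN : ∀ x : R' ⊗[R] p.ResidueField, x ∈ NN R A' R' p.ResidueField ↔
      chi (A := A) (A' := A') p x = 0 := by
    intro x
    rw [chi_eq_zero_iff, mem_map_smul_top_iff (B := R') (maximalIdeal A') x,
      Ideal.smul_top_eq_map]
    rfl
  rw [hNN] at hz ⊢
  have hmul : t • z = algebraMap R' (R' ⊗[R] p.ResidueField) t * z := Algebra.smul_def t z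
  rw [hmul, map_mul] at hz
  -- non-nilpotency
  have hnil : ¬ IsNilpotent (chi (A := A) (A' := A') p
      (algebraMap R' (R' ⊗[R] p.ResidueField) t)) := by
    rintro ⟨N, hN⟩
    rw [← map_pow, ← map_pow, chi_eq_zero_iff] at hN
    have hψ : ∀ x ∈ (maximalIdeal A').map (algebraMap A' (R' ⊗[R] p.ResidueField)),
        psi p q₀ hq1 x = 0 := by
      intro x hx
      have : (maximalIdeal A').map (algebraMap A' (R' ⊗[R] p.ResidueField)) ≤
          RingHom.ker (psi p q₀ hq1 : R' ⊗[R] p.ResidueField →+* q₀.ResidueField) := by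
        rw [Ideal.map_le_iff_le_comap]
        intro a' ha'
        rw [Ideal.mem_comap, RingHom.mem_ker,
          IsScalarTower.algebraMap_apply A' R' (R' ⊗[R] p.ResidueField)]
        change psi p q₀ hq1 (algebraMap R' _ (algebraMap A' R' a')) = 0
        rw [AlgHom.commutes, Ideal.algebraMap_residueField_eq_zero]
        exact hq2 (Ideal.mem_map_of_mem _ ha')
      exact this hx
    have h0 := hψ _ hN
    rw [AlgHom.commutes, Ideal.algebraMap_residueField_eq_zero] at h0
    exact ht (Ideal.IsPrime.mem_of_pow_mem inferInstance N h0)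
  exact Groth.Agent.H3.PrimTensor.eq_zero_of_mul_eq_zero hprim (ResidueField A')
    (Algebra.TensorProduct.equivOfCompatibleSMul (ResidueField A) A A (ResidueField A')
      p.ResidueField).toRingEquiv hnil hz

/-- **the nonzerodivisor lifting**: for a module of finite length over the local ring at `p`
killed by `m`, an element `t ∉ q₀` is a nonzerodivisor on `(R' ⊗ Y) / m' (R' ⊗ Y)`. -/
theorem NZ_of_pow
    (hprim : ∀ a : p.ResidueField, IsSeparable (ResidueField A) a →
      a ∈ (algebraMap (ResidueField A) p.ResidueField).range)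
    (q₀ : Ideal R') [q₀.IsPrime] (hq1 : q₀.comap (algebraMap R R') = p)
    (hq2 : (maximalIdeal A').map (algebraMap A' R') ≤ q₀)
    (t : R') (ht : t ∉ q₀) (n : ℕ) :
    ∀ (Y : Type u) [AddCommGroup Y] [Module (Localization.AtPrime p) Y] [Module R Y]
      [IsScalarTower R (Localization.AtPrime p) Y],
      (∀ a ∈ maximalIdeal A, ∀ y : Y, algebraMap A R a • y = 0) →
      (∀ b ∈ maximalIdeal (Localization.AtPrime p) ^ n, ∀ y : Y, b • y = 0) → NZ R A' t Y := by
  induction n with
  | zero =>
    intro Y _ _ _ _ hm hn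
    have hY : ∀ y : Y, y = 0 := by
      intro y
      have := hn 1 (by rw [pow_zero, Ideal.one_eq_top]; exact Submodule.mem_top) y
      rwa [one_smul] at this
    have hz0 : ∀ z : R' ⊗[R] Y, z = 0 := by
      intro z
      induction z using TensorProduct.induction_on with
      | zero => rfl
      | add x y hx hy => rw [hx, hy, add_zero]
      | tmul r y => rw [hY y, TensorProduct.tmul_zero]
    intro z hz
    rw [hz0 z]
    exact Submodule.zero_mem _
  | succ n ih =>
    intro Y _ _ _ _ hm hn
    set 𝔫 := maximalIdeal (Localization.AtPrime p) with h𝔫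
    let Y' : Submodule (Localization.AtPrime p) Y := 𝔫 • ⊤
    let ι : Y' →ₗ[R] Y := Y'.subtype.restrictScalars R
    let π : Y →ₗ[R] (Y ⧸ Y') := Y'.mkQ.restrictScalars R
    have hι : Function.Injective ι := Subtype.val_injective
    have hπ : Function.Surjective π := Y'.mkQ_surjective
    have hex : Function.Exact ι π := LinearMap.exact_subtype_mkQ Y'
    -- the submodule
    have h1 : NZ R A' t Y' := by
      apply ih Y'
      · intro a ha y
        apply Subtype.ext
        change algebraMap A R a • (y : Y) = 0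
        exact hm a ha _
      · intro b hb y
        apply Subtype.ext
        change b • (y : Y) = 0
        have hy : (y : Y) ∈ 𝔫 • (⊤ : Submodule (Localization.AtPrime p) Y) := y.2
        refine Submodule.smul_induction_on hy ?_ ?_
        · intro c hc y₀ _
          rw [smul_smul]
          apply hn
          rw [pow_succ]
          exact Ideal.mul_mem_mul hb hc
        · intro y₁ y₂ h₁ h₂
          rw [smul_add, h₁, h₂, add_zero]
    -- the quotient
    have h2 : NZ R A' t (Y ⧸ Y') := by
      have htors : Module.IsTorsionBySet (Localization.AtPrime p) (Y ⧸ Y') (𝔫 : Set _) := by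
        rintro y ⟨b, hb⟩
        obtain ⟨y, rfl⟩ := Y'.mkQ_surjective y
        change b • Y'.mkQ y = 0
        rw [← map_smul, Submodule.mkQ_apply, Submodule.Quotient.mk_eq_zero]
        exact Submodule.smul_mem_smul hb trivial
      letI : Module p.ResidueField (Y ⧸ Y') := htors.module
      haveI : IsScalarTower R p.ResidueField (Y ⧸ Y') := ⟨fun r c y => by
        obtain ⟨b, rfl⟩ := IsLocalRing.residue_surjective c
        have e1 : r • residue (Localization.AtPrime p) b = residue _ (r • b) := rfl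
        have e2 : ∀ (b' : Localization.AtPrime p) (y' : Y ⧸ Y'),
            residue (Localization.AtPrime p) b' • y' = b' • y' :=
          fun b' y' => Module.IsTorsionBySet.mk_smul htors b' y'
        rw [e1, e2, e2, smul_assoc]⟩
      exact NZ_of_vectorSpace p.ResidueField t (NZ_residueField p hprim q₀ hq1 hq2 t ht)
    exact NZ_of_exact t ι π hι hπ hex hm h1 h2

end StepC


section KeyOne
variable {A R A' R' : Type u} [CommRing A] [IsLocalRing A] [CommRing R] [Algebra A R]
  [CommRing A'] [IsLocalRing A'] [Algebra A A'] [CommRing R'] [Algebra R R'] [Algebra A' R']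
  [Algebra A R'] [IsScalarTower A R R'] [IsScalarTower A A' R'] [Algebra.IsPushout A A' R R']
  (p : Ideal R) [p.IsPrime]
  {M₀ M' : Type u} [AddCommGroup M₀] [Module R M₀]
  [AddCommGroup M'] [Module R' M'] [Module R M'] [IsScalarTower R R' M'] [Module A' M']
  [IsScalarTower A' R' M']
  (σ : M₀ →ₗ[R] M') (hσ : IsBaseChange R' σ)
  {Y : Type u} [AddCommGroup Y] [Module R Y] [Module A Y] [IsScalarTower A R Y]

include hσ in
/-- variant of `mem_of_relation`: a multiplier `t` which is a nonzerodivisor modulo `m'`. -/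
theorem mem_of_relation_one (hloc : ∀ a ∈ maximalIdeal A, algebraMap A A' a ∈ maximalIdeal A')
    (hY1 : ∀ a ∈ maximalIdeal A, ∀ y : Y, a • y = 0)
    (n : ℕ) (hY2 : ∀ r ∈ p ^ n, ∀ y : Y, r • y = 0)
    (hY3 : ∀ t ∈ p.primeCompl, Function.Bijective (fun y : Y => t • y))
    (π : M₀ →ₗ[R] Y) {J : Type*} (s : Finset J) (m : J → M₀)
    (hind : ∀ b : J → A, ∑ l ∈ s, b l • π (m l) = 0 → ∀ l ∈ s, b l ∈ maximalIdeal A)
    (c : J → A') (t : R') (hNZ : NZ R A' t Y)
    (h2 : t • (∑ l ∈ s, c l • σ (m l)) ∈
      ((maximalIdeal A').map (algebraMap A' R')) • (⊤ : Submodule R' M')) :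
    ∀ l ∈ s, c l ∈ maximalIdeal A' := by
  classical
  set w : M' := ∑ l ∈ s, c l • σ (m l) with hw
  let Θ : M' →ₗ[R'] R' ⊗[R] Y := hσ.lift ((TensorProduct.mk R R' Y 1) ∘ₗ π)
  have hΘ : ∀ x : M₀, Θ (σ x) = (1 : R') ⊗ₜ[R] π x := fun x => hσ.lift_eq _ x
  have h3 : t • Θ w ∈ NN R A' R' Y := by
    rw [← map_smul]
    exact map_mem_smul_top _ Θ h2
  have h5 : Θ w ∈ NN R A' R' Y := hNZ _ h3
  have h6 : Θ w = ∑ l ∈ s, c l • ((1 : R') ⊗ₜ[R] π (m l)) := by
    rw [hw, map_sum]
    refine Finset.sum_congr rfl fun l _ => ?_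
    rw [← algebraMap_smul R' (c l) (σ (m l)), map_smul, hΘ, algebraMap_smul]
  refine mem_of_relation (M₀ := Y) (M' := R' ⊗[R] Y) (Y := Y) p (TensorProduct.mk R R' Y 1)
    (TensorProduct.isBaseChange R Y R') hloc hY1 n hY2 hY3 LinearMap.id s (fun l => π (m l)) hind c 1
    (Submonoid.one_mem _) 0 (Submodule.zero_mem _) ?_
  rw [map_one, sub_zero, one_smul]
  rw [h6] at h5
  exact h5

end KeyOne

section KeyOne2
variable {A R A' R' : Type u} [CommRing A] [IsLocalRing A] [CommRing R] [Algebra A R]
  [IsNoetherianRing R]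
  [CommRing A'] [IsLocalRing A'] [Algebra A A'] [CommRing R'] [Algebra R R'] [Algebra A' R']
  [Algebra A R'] [IsScalarTower A R R'] [IsScalarTower A A' R'] [Algebra.IsPushout A A' R R']
  (p : Ideal R) [p.IsPrime] [IsLocalHom (algebraMap A A')]
  [IsLocalHom (algebraMap A (Localization.AtPrime p))]
  {M₀ M' : Type u} [AddCommGroup M₀] [Module R M₀] [Module A M₀] [IsScalarTower A R M₀]
  [Module.Finite R M₀]
  [AddCommGroup M'] [Module R' M'] [Module R M'] [IsScalarTower R R' M'] [Module A' M']
  [IsScalarTower A' R' M']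
  (σ : M₀ →ₗ[R] M') (hσ : IsBaseChange R' σ)

omit [IsLocalHom (algebraMap A (Localization.AtPrime p))] [IsNoetherianRing R] in
lemma hloc_of_isLocalHom : ∀ a ∈ maximalIdeal A, algebraMap A A' a ∈ maximalIdeal A' := by
  intro a ha
  rw [mem_maximalIdeal, mem_nonunits_iff] at ha ⊢
  exact fun h => ha (isUnit_of_map_unit _ a h)

include hσ in
theorem key_indep_one
    (hprim : ∀ a : p.ResidueField, IsSeparable (ResidueField A) a →
      a ∈ (algebraMap (ResidueField A) p.ResidueField).range)
    (q₀ : Ideal R') [q₀.IsPrime] (hq1 : q₀.comap (algebraMap R R') = p)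
    (hq2 : q₀.comap (algebraMap A' R') = maximalIdeal A')
    {J : Type*} (s : Finset J) (m : J → M₀)
    (hind : ∀ b : J → A, (∑ l ∈ s, b l • LocalizedModule.mkLinearMap p.primeCompl M₀ (m l)) ∈
       maximalIdeal A • (⊤ : Submodule A (LocalizedModule p.primeCompl M₀)) →
         ∀ l ∈ s, b l ∈ maximalIdeal A)
    (c : J → A')
    (hc : (∑ l ∈ s, c l • LocalizedModule.mkLinearMap q₀.primeCompl M' (σ (m l))) ∈
        maximalIdeal A' • (⊤ : Submodule A' (LocalizedModule q₀.primeCompl M'))) :
    ∀ l ∈ s, c l ∈ maximalIdeal A' := by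
  classical
  have hloc := hloc_of_isLocalHom (A := A) (A' := A')
  set w : M' := ∑ l ∈ s, c l • σ (m l) with hw
  set Ibar : Ideal R' := (maximalIdeal A').map (algebraMap A' R') with hIbar
  have hq2' : Ibar ≤ q₀ := by
    rw [hIbar, Ideal.map_le_iff_le_comap, hq2]
  obtain ⟨t, ht, h2⟩ : ∃ t ∈ q₀.primeCompl, t • w ∈ Ibar • (⊤ : Submodule R' M') := by
    apply exists_smul_mem_of_mk_mem q₀ (maximalIdeal A') w
    rw [hw, map_sum]
    convert hc using 2 with l hl
    rw [LocalizedModule.mkLinearMap_apply, LocalizedModule.mkLinearMap_apply,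
      LocalizedModule.smul'_mk]
  -- the local ring and module
  obtain ⟨n, hn⟩ := exists_pow_indep (A := A) (B := Localization.AtPrime p)
    (M := LocalizedModule p.primeCompl M₀) s
    (fun l => LocalizedModule.mkLinearMap p.primeCompl M₀ (m l)) hind
  set L : Submodule (Localization.AtPrime p) (LocalizedModule p.primeCompl M₀) :=
    ((maximalIdeal A).map (algebraMap A (Localization.AtPrime p))) • ⊤ ⊔
      (maximalIdeal (Localization.AtPrime p)) ^ n • ⊤ with hL
  let π : M₀ →ₗ[R] (LocalizedModule p.primeCompl M₀ ⧸ L) :=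
    (L.mkQ.restrictScalars R) ∘ₗ (LocalizedModule.mkLinearMap p.primeCompl M₀)
  have hπ : ∀ x : M₀, π x = L.mkQ (LocalizedModule.mkLinearMap p.primeCompl M₀ x) := fun x => rfl
  have hkillA : ∀ a ∈ maximalIdeal A, ∀ y : LocalizedModule p.primeCompl M₀ ⧸ L, a • y = 0 := by
    intro a ha y
    obtain ⟨z, rfl⟩ := L.mkQ_surjective y
    rw [← algebraMap_smul (Localization.AtPrime p) a, ← map_smul, Submodule.mkQ_apply,
      Submodule.Quotient.mk_eq_zero]
    apply Submodule.mem_sup_left
    exact Submodule.smul_mem_smul (Ideal.mem_map_of_mem _ ha) trivial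
  have hkilln : ∀ b ∈ maximalIdeal (Localization.AtPrime p) ^ n,
      ∀ y : LocalizedModule p.primeCompl M₀ ⧸ L, b • y = 0 := by
    intro b hb y
    obtain ⟨z, rfl⟩ := L.mkQ_surjective y
    rw [← map_smul, Submodule.mkQ_apply, Submodule.Quotient.mk_eq_zero]
    apply Submodule.mem_sup_right
    exact Submodule.smul_mem_smul hb trivial
  have hNZ : NZ R A' t (LocalizedModule p.primeCompl M₀ ⧸ L) := by
    refine NZ_of_pow p hprim q₀ hq1 hq2' t ht n _ ?_ hkilln
    intro a ha y
    rw [algebraMap_smul]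
    exact hkillA a ha y
  refine mem_of_relation_one (Y := LocalizedModule p.primeCompl M₀ ⧸ L) p σ hσ hloc hkillA n ?_ ?_
    π s m ?_ c t hNZ h2
  · -- killed by `p ^ n`
    intro r hr y
    rw [← algebraMap_smul (Localization.AtPrime p) r]
    apply hkilln
    rw [← Localization.AtPrime.map_eq_maximalIdeal, ← Ideal.map_pow]
    exact Ideal.mem_map_of_mem _ hr
  · -- elements outside `p` act bijectively
    intro t ht
    have hu : IsUnit (algebraMap R (Localization.AtPrime p) t) :=
      IsLocalization.map_units (Localization.AtPrime p) (⟨t, ht⟩ : p.primeCompl)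
    have hb : Function.Bijective (fun y : LocalizedModule p.primeCompl M₀ ⧸ L =>
        (algebraMap R (Localization.AtPrime p) t) • y) := by
      constructor
      · intro y y' h
        exact hu.smul_left_cancel.mp h
      · intro y
        refine ⟨((hu.unit⁻¹ : (Localization.AtPrime p)ˣ) : Localization.AtPrime p) • y, ?_⟩
        change (algebraMap R (Localization.AtPrime p) t) • _ = y
        rw [smul_smul]
        have : algebraMap R (Localization.AtPrime p) t *
            ((hu.unit⁻¹ : (Localization.AtPrime p)ˣ) : Localization.AtPrime p) = 1 :=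
          hu.mul_val_inv
        rw [this, one_smul]
    convert hb using 2 with y
    rw [algebraMap_smul]
  · intro b hb
    apply hn b
    have : (∑ l ∈ s, b l • LocalizedModule.mkLinearMap p.primeCompl M₀ (m l)) ∈ L := by
      rw [← Submodule.Quotient.mk_eq_zero, ← Submodule.mkQ_apply, map_sum, ← hb]
      refine Finset.sum_congr rfl fun l _ => ?_
      rw [hπ, ← algebraMap_smul (Localization.AtPrime p) (b l), map_smul, algebraMap_smul]
    exact this

include hσ in
/-- **single test algebra, one flat point, relative version**: an `A`-relation modulo `𝔞` among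
elements of `(M₀)_p` independent modulo `m` has coefficients landing in `𝔟 ⊇ 𝔞 A'`, provided the
base change of `M₀` is `A'`-flat at one prime `q₀` above `p` and the closed point, and `κ(p)` is a
primary extension of the residue field of `A`. -/
theorem algebraMap_mem_of_relation_one
    (hprim : ∀ a : p.ResidueField, IsSeparable (ResidueField A) a →
      a ∈ (algebraMap (ResidueField A) p.ResidueField).range)
    (𝔞 : Ideal A) (𝔟 : Ideal A') (h𝔞𝔟 : 𝔞.map (algebraMap A A') ≤ 𝔟) (h𝔟 : 𝔟 ≤ maximalIdeal A')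
    (q₀ : Ideal R') [q₀.IsPrime] (hq1 : q₀.comap (algebraMap R R') = p)
    (hq2 : q₀.comap (algebraMap A' R') = maximalIdeal A')
    (hflat : Module.Flat A' (LocalizedModule q₀.primeCompl M'))
    {J : Type*} (s : Finset J) (x : J → LocalizedModule p.primeCompl M₀) (a : J → A)
    (hind : ∀ b : J → A, ∑ l ∈ s, b l • x l ∈
      maximalIdeal A • (⊤ : Submodule A (LocalizedModule p.primeCompl M₀)) →
        ∀ l ∈ s, b l ∈ maximalIdeal A)
    (hrel : ∑ l ∈ s, a l • x l ∈ 𝔞 • (⊤ : Submodule A (LocalizedModule p.primeCompl M₀))) :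
    ∀ l ∈ s, algebraMap A A' (a l) ∈ 𝔟 := by
  classical
  obtain ⟨t, ht⟩ := IsLocalizedModule.exist_integer_multiples p.primeCompl
    (LocalizedModule.mkLinearMap p.primeCompl M₀) s x
  have hex : ∀ l, ∃ ml : M₀, l ∈ s →
      LocalizedModule.mkLinearMap p.primeCompl M₀ ml = t.val • x l := by
    intro l
    by_cases hl : l ∈ s
    · obtain ⟨ml, hml⟩ := ht l hl
      exact ⟨ml, fun _ => hml⟩
    · exact ⟨0, fun h => absurd h hl⟩
  choose m hm using hex
  have hsum : ∀ b : J → A, ∑ l ∈ s, b l • LocalizedModule.mkLinearMap p.primeCompl M₀ (m l) =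
      t.val • ∑ l ∈ s, b l • x l := by
    intro b
    rw [Finset.smul_sum]
    refine Finset.sum_congr rfl fun l hl => ?_
    rw [hm l hl, smul_comm]
  have hu : IsUnit (algebraMap R (Localization.AtPrime p) t.val) :=
    IsLocalization.map_units (Localization.AtPrime p) t
  -- independence of the numerators
  have hind' : ∀ b : J → A,
      (∑ l ∈ s, b l • LocalizedModule.mkLinearMap p.primeCompl M₀ (m l)) ∈
        maximalIdeal A • (⊤ : Submodule A (LocalizedModule p.primeCompl M₀)) →
          ∀ l ∈ s, b l ∈ maximalIdeal A := by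
    intro b hb
    apply hind b
    rw [hsum b, ← mem_map_smul_top_iff (B := Localization.AtPrime p),
      ← algebraMap_smul (Localization.AtPrime p) t.val] at hb
    rw [← mem_map_smul_top_iff (B := Localization.AtPrime p)]
    have := Submodule.smul_mem _ ((hu.unit⁻¹ : (Localization.AtPrime p)ˣ) :
      Localization.AtPrime p) hb
    rw [smul_smul] at this
    have h1 : ((hu.unit⁻¹ : (Localization.AtPrime p)ˣ) : Localization.AtPrime p) *
        algebraMap R (Localization.AtPrime p) t.val = 1 := hu.val_inv_mul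
    rwa [h1, one_smul] at this
  -- the relation among numerators
  set w₀ : M₀ := ∑ l ∈ s, a l • m l with hw₀
  have hrel' : LocalizedModule.mkLinearMap p.primeCompl M₀ w₀ ∈
      𝔞 • (⊤ : Submodule A (LocalizedModule p.primeCompl M₀)) := by
    have h1 : LocalizedModule.mkLinearMap p.primeCompl M₀ w₀ = t.val • ∑ l ∈ s, a l • x l := by
      rw [← hsum a, hw₀, map_sum]
      refine Finset.sum_congr rfl fun l _ => ?_
      rw [LinearMap.map_smul_of_tower]
    rw [h1, ← mem_map_smul_top_iff (B := Localization.AtPrime p),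
      ← algebraMap_smul (Localization.AtPrime p) t.val]
    exact Submodule.smul_mem _ _ ((mem_map_smul_top_iff (B := Localization.AtPrime p) _ _).mpr hrel)
  obtain ⟨t', ht'p, ht'⟩ := exists_smul_mem_of_mk_mem p 𝔞 w₀ hrel'
  -- push to `M'`
  have hpush : ∀ z ∈ (𝔞.map (algebraMap A R)) • (⊤ : Submodule R M₀),
      σ z ∈ (𝔟.map (algebraMap A' R')) • (⊤ : Submodule R' M') := by
    intro z hz
    refine Submodule.smul_induction_on hz ?_ ?_
    · intro r hr y _
      rw [map_smul, ← algebraMap_smul R' r (σ y)]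
      refine Submodule.smul_mem_smul ?_ trivial
      have h1 : algebraMap R R' r ∈ (𝔞.map (algebraMap A R)).map (algebraMap R R') :=
        Ideal.mem_map_of_mem _ hr
      rw [Ideal.map_map, ← IsScalarTower.algebraMap_eq, IsScalarTower.algebraMap_eq A A' R',
        ← Ideal.map_map] at h1
      exact Ideal.map_mono h𝔞𝔟 h1
    · intro y z hy hz
      rw [map_add]; exact Submodule.add_mem _ hy hz
  have hσa : ∀ (a₀ : A) (z : M₀), algebraMap A A' a₀ • σ z = σ (a₀ • z) := by
    intro a₀ z
    rw [← algebraMap_smul R' (algebraMap A A' a₀), ← IsScalarTower.algebraMap_apply A A' R',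
      IsScalarTower.algebraMap_apply A R R', algebraMap_smul, ← algebraMap_smul R a₀ z, map_smul]
  haveI : IsLocalRing (A' ⧸ 𝔟) := isLocalRing_quotient 𝔟 h𝔟
  have key := mli (R := A' ⧸ 𝔟) (Q := Unit)
    (fun _ => (A' ⧸ 𝔟) ⊗[A'] (LocalizedModule q₀.primeCompl M')) s
    (fun l => Ideal.Quotient.mk 𝔟 (algebraMap A A' (a l)))
    (fun _ l => (1 : A' ⧸ 𝔟) ⊗ₜ[A']
      LocalizedModule.mkLinearMap q₀.primeCompl M' (σ (m l))) ?_ ?_
  · intro l hl
    exact Ideal.Quotient.eq_zero_iff_mem.mp (key l hl)
  · intro _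
    have h1 : ∑ l ∈ s, algebraMap A A' (a l) •
        LocalizedModule.mkLinearMap q₀.primeCompl M' (σ (m l)) =
        LocalizedModule.mkLinearMap q₀.primeCompl M' (σ w₀) := by
      rw [hw₀, map_sum, map_sum]
      refine Finset.sum_congr rfl fun l _ => ?_
      rw [← hσa, LocalizedModule.mkLinearMap_apply, LocalizedModule.mkLinearMap_apply,
        LocalizedModule.smul'_mk]
    rw [sum_mk_smul_one_tmul, one_tmul_eq_zero_iff, h1]
    refine mk_mem_of_smul_mem q₀ 𝔟 (σ w₀) (algebraMap R R' t') ?_ ?_
    · intro hmem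
      have : t' ∈ q₀.comap (algebraMap R R') := hmem
      rw [hq1] at this
      exact ht'p this
    · rw [algebraMap_smul, ← map_smul]
      exact hpush _ ht'
  · intro cb hcb
    choose c hc using fun l => Ideal.Quotient.mk_surjective (cb l)
    have hcm : ∀ l ∈ s, c l ∈ maximalIdeal A' := by
      refine key_indep_one p σ hσ hprim q₀ hq1 hq2 s m hind' c ?_
      have h2 := hcb ()
      have h3 : ∀ l, cb l = Ideal.Quotient.mk 𝔟 (c l) := fun l => (hc l).symm
      simp only [h3] at h2
      rw [sum_mk_smul_one_tmul, one_tmul_mem_iff 𝔟 h𝔟] at h2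
      exact h2
    intro l hl
    rw [← hc l, mk_mem_maximalIdeal_iff 𝔟 h𝔟]
    exact hcm l hl

end KeyOne2

end Groth.Agent.H3.ArtFlat
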