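import Groth.Agent.Lib.Helper3.ArtFlat.Main2
import Groth.Agent.Lib.Helper3.ArtFlat.Fam2

set_option autoImplicit false
universe u
open CategoryTheory Limits AlgebraicGeometry TopologicalSpace Opposite TensorProduct IsLocalRing

namespace Groth.Agent.H3.ArtFlat

open Groth.Agent.LD.QC Groth.Agent.H1.SchFlat

section SchKey2
variable {X S X' S' : Scheme.{u}} {f : X ⟶ S} {f' : X' ⟶ S'} {g' : X' ⟶ X} {g : S' ⟶ S}

set_option maxHeartbeats 1600000 in
/-- **single test scheme, chart form, relative version**: a relation modulo `𝔞` has coefficients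
landing in `𝔟 ⊇ 𝔞 Γ(S')`. -/
theorem appLE_mem_of_relation (hc : IsPullback g' f' f g) [IsAffine S] [IsAffine S']
    [IsLocalRing Γ(S, ⊤)] [IsLocalRing Γ(S', ⊤)]
    (hTT : (⊤ : S'.Opens) ≤ g ⁻¹ᵁ ⊤)
    (hloc : ∀ a ∈ maximalIdeal Γ(S, ⊤), g.appLE ⊤ ⊤ hTT a ∈ maximalIdeal Γ(S', ⊤))
    (𝔞 : Ideal Γ(S, ⊤)) (𝔟 : Ideal Γ(S', ⊤)) (h𝔞𝔟 : 𝔞.map (g.appLE ⊤ ⊤ hTT).hom ≤ 𝔟)
    (h𝔟 : 𝔟 ≤ maximalIdeal Γ(S', ⊤))
    (F : X.Modules) [F.IsQuasicoherent] {U : X.Opens} (hU : IsAffineOpen U)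
    [IsNoetherianRing Γ(X, U)] [Module.Finite Γ(X, U) Γ(F, U)]
    (hUT : U ≤ f ⁻¹ᵁ ⊤) (x : X) (hx : x ∈ U)
    (hflat : ∀ x' : X', g' x' = x → IsClosed ({f' x'} : Set S') →
      FlatMod.IsFlatOverAt f' ((Scheme.Modules.pullback g').obj F) x') :
    letI := algΓ f hUT
    letI := sectionsModuleOver f F hUT
    haveI := isScalarTower_sections f F hUT
    ∀ (J : Type u) (s : Finset J)
      (xs : J → LocalizedModule (hU.primeIdealOf ⟨x, hx⟩).asIdeal.primeCompl Γ(F, U))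
      (a : J → Γ(S, ⊤)),
      (∀ b : J → Γ(S, ⊤), ∑ l ∈ s, b l • xs l ∈ maximalIdeal Γ(S, ⊤) •
        (⊤ : Submodule Γ(S, ⊤)
          (LocalizedModule (hU.primeIdealOf ⟨x, hx⟩).asIdeal.primeCompl Γ(F, U))) →
        ∀ l ∈ s, b l ∈ maximalIdeal Γ(S, ⊤)) →
      ∑ l ∈ s, a l • xs l ∈ 𝔞 • (⊤ : Submodule Γ(S, ⊤)
          (LocalizedModule (hU.primeIdealOf ⟨x, hx⟩).asIdeal.primeCompl Γ(F, U))) →
      ∀ l ∈ s, g.appLE ⊤ ⊤ hTT (a l) ∈ 𝔟 := by
  letI := algΓ f hUT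
  letI := sectionsModuleOver f F hUT
  haveI := isScalarTower_sections f F hUT
  intro J s xs a hind hrel
  haveI := qc_pullback g' F
  have hW : IsAffineOpen (⊤ : S.Opens) := isAffineOpen_top S
  have hW' : IsAffineOpen (⊤ : S'.Opens) := isAffineOpen_top S'
  obtain ⟨hU', hpo⟩ := pushout_chart hc hW hW' hU hTT hUT
  set U' : X'.Opens := g' ⁻¹ᵁ U ⊓ f' ⁻¹ᵁ ⊤ with hU'def
  have e1 : U' ≤ g' ⁻¹ᵁ U := inf_le_left
  have e2 : U' ≤ f' ⁻¹ᵁ ⊤ := inf_le_right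
  -- ring structure
  letI aRR' : Algebra Γ(S, ⊤) Γ(S', ⊤) := (g.appLE ⊤ ⊤ hTT).hom.toAlgebra
  letI aR'T' : Algebra Γ(S', ⊤) Γ(X', U') := algΓ f' e2
  letI aTT' : Algebra Γ(X, U) Γ(X', U') := (g'.appLE U U' e1).hom.toAlgebra
  letI aRT' : Algebra Γ(S, ⊤) Γ(X', U') :=
    ((g'.appLE U U' e1).hom.comp (f.appLE ⊤ U hUT).hom).toAlgebra
  haveI t1 : IsScalarTower Γ(S, ⊤) Γ(X, U) Γ(X', U') := IsScalarTower.of_algebraMap_eq fun _ => rfl
  haveI t2 : IsScalarTower Γ(S, ⊤) Γ(S', ⊤) Γ(X', U') := IsScalarTower.of_algebraMap_eq fun r => by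
    have := congr($(hpo.w) r)
    exact this
  haveI hPO : Algebra.IsPushout Γ(S, ⊤) Γ(S', ⊤) Γ(X, U) Γ(X', U') :=
    CommRingCat.isPushout_iff_isPushout.mp hpo.flip
  -- modules
  set P := (Scheme.Modules.pullback g').obj F with hP
  letI mTN' : Module Γ(X, U) Γ(P, U') := pbModule g' F e1
  haveI tTT'N' : IsScalarTower Γ(X, U) Γ(X', U') Γ(P, U') := pbModule_isScalarTower g' F e1
  letI mR'N' : Module Γ(S', ⊤) Γ(P, U') := sectionsModuleOver f' P e2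
  haveI tR'T'N' : IsScalarTower Γ(S', ⊤) Γ(X', U') Γ(P, U') := isScalarTower_sections f' P e2
  have hσ : IsBaseChange Γ(X', U') (pbSecₗ g' F e1) := isBaseChange_pbSec g' hU' hU e1 F
  refine algebraMap_mem_of_relation (A := Γ(S, ⊤)) (R := Γ(X, U)) (A' := Γ(S', ⊤))
    (R' := Γ(X', U')) (hU.primeIdealOf ⟨x, hx⟩).asIdeal (pbSecₗ g' F e1) hσ hloc 𝔞 𝔟 h𝔞𝔟 h𝔟 ?_
    s xs a hind hrel
  intro q hqp hq1 hq2
  obtain ⟨x', hx', hx'q⟩ := exists_point_of_prime hU' ⟨q, hqp⟩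
  have hqeq : (hU'.primeIdealOf ⟨x', hx'⟩).asIdeal = q := congrArg PrimeSpectrum.asIdeal hx'q
  -- the point lies over `x`
  have h1 : g' x' = x := by
    apply eq_of_primeIdealOf_eq hU (e1 hx') hx
    rw [← IsAffineOpen.comap_primeIdealOf_appLE (f := g') U hU U' hU' e1 hx']
    apply PrimeSpectrum.ext
    change (hU'.primeIdealOf ⟨x', hx'⟩).asIdeal.comap (g'.appLE U U' e1).hom = _
    rw [hqeq]
    exact hq1
  -- and over a closed point
  have h2 : IsClosed ({f' x'} : Set S') := by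
    apply isClosed_singleton_of_isMaximal
    have h3 : (hW'.primeIdealOf ⟨f' x', e2 hx'⟩).asIdeal = maximalIdeal Γ(S', ⊤) := by
      rw [← IsAffineOpen.comap_primeIdealOf_appLE (f := f') ⊤ hW' U' hU' e2 hx']
      change (hU'.primeIdealOf ⟨x', hx'⟩).asIdeal.comap (f'.appLE ⊤ U' e2).hom = _
      rw [hqeq]
      exact hq2
    rw [h3]
    exact IsLocalRing.maximalIdeal.isMaximal _
  have h4 := (isFlatOverAt_iff_flat_localizedModule f' P hU' hW' e2 x' hx').mp (hflat x' h1 h2)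
  subst hqeq
  exact h4

end SchKey2

/-- **EGA IV 11.4.? (adic version), affine local Noetherian base, general pullback squares.** -/
theorem isFlatOverAt_of_family_adic {X S : Scheme.{u}} (f : X ⟶ S) [IsAffine S]
    [IsLocalRing Γ(S, ⊤)] [IsNoetherianRing Γ(S, ⊤)]
    [IsLocallyNoetherian X] (F : X.Modules) (hF : Coh.IsCoh F) (x : X)
    (hxcl : IsClosed ({f x} : Set S))
    {ι : Type*} (S' : ι → Scheme.{u}) [∀ i, IsAffine (S' i)] [∀ i, IsLocalRing Γ(S' i, ⊤)]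
    (X' : ι → Scheme.{u}) (g : ∀ i, S' i ⟶ S) (g' : ∀ i, X' i ⟶ X) (f' : ∀ i, X' i ⟶ S' i)
    (hc : ∀ i, IsPullback (g' i) (f' i) f (g i))
    (hloc : ∀ i, ∀ a ∈ maximalIdeal Γ(S, ⊤), (g i).appTop a ∈ maximalIdeal Γ(S' i, ⊤))
    (htop : ∀ N : ℕ, ∃ s : Finset (ι × ℕ),
      ⨅ p ∈ s, Ideal.comap (g p.1).appTop.hom (maximalIdeal Γ(S' p.1, ⊤) ^ p.2) ≤
        maximalIdeal Γ(S, ⊤) ^ N)
    (hflat : ∀ (i : ι) (x' : X' i), g' i x' = x →
      IsClosed ({f' i x'} : Set (S' i)) →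
      FlatMod.IsFlatOverAt (f' i) ((Scheme.Modules.pullback (g' i)).obj F) x') :
    FlatMod.IsFlatOverAt f F x := by
  classical
  haveI : F.IsQuasicoherent := hF.1
  obtain ⟨U, hU, hxU, -⟩ := exists_isAffineOpen_mem_and_subset (x := x) (U := ⊤) trivial
  have hUT : U ≤ f ⁻¹ᵁ ⊤ := fun _ _ => trivial
  have hV : IsAffineOpen (⊤ : S.Opens) := isAffineOpen_top S
  rw [isFlatOverAt_iff_flat_localizedModule f F hU hV hUT x hxU]
  letI := algΓ f hUT
  letI := sectionsModuleOver f F hUT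
  haveI := isScalarTower_sections f F hUT
  haveI : IsNoetherianRing Γ(X, U) := IsLocallyNoetherian.component_noetherian ⟨U, hU⟩
  haveI : Module.Finite Γ(X, U) Γ(F, U) := finite_sections_of_isFiniteType F hF.2 hU
  set p := (hU.primeIdealOf ⟨x, hxU⟩).asIdeal with hp
  -- `x` lies over the closed point
  have hpm : p.comap (algebraMap Γ(S, ⊤) Γ(X, U)) = maximalIdeal Γ(S, ⊤) := by
    have h1 := IsAffineOpen.comap_primeIdealOf_appLE (f := f) ⊤ hV U hU hUT hxU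
    have h2 : (hV.primeIdealOf ⟨f x, hUT hxU⟩).asIdeal.IsMaximal :=
      hV.primeIdealOf_isMaximal_of_isClosed ⟨f x, hUT hxU⟩ hxcl
    have h3 := IsLocalRing.eq_maximalIdeal h2
    rw [← h3, ← h1]
    rfl
  refine flat_of_forall_relation_mod (B := Localization.AtPrime p) ?_ ?_
  · rw [IsLocalRing.jacobson_eq_maximalIdeal ⊥ bot_ne_top, Ideal.map_le_iff_le_comap]
    intro a ha
    rw [Ideal.mem_comap, IsScalarTower.algebraMap_apply Γ(S, ⊤) Γ(X, U) (Localization.AtPrime p),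
      IsLocalization.AtPrime.to_map_mem_maximal_iff (Localization.AtPrime p) p]
    rw [← hpm] at ha
    exact ha
  · intro N
    obtain ⟨s, hs⟩ := htop N
    refine ⟨⨅ p ∈ s, Ideal.comap (g p.1).appTop.hom (maximalIdeal Γ(S' p.1, ⊤) ^ p.2), hs,
      ⟨s.sup Prod.snd, ?_⟩, ?_⟩
    · refine le_iInf₂ fun q hq => ?_
      refine (Ideal.pow_le_pow_right (Finset.le_sup (f := Prod.snd) hq)).trans ?_
      rw [← Ideal.map_le_iff_le_comap, Ideal.map_pow]
      refine Ideal.pow_right_mono ?_ _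
      rw [Ideal.map_le_iff_le_comap]
      intro a ha
      exact hloc q.1 a ha
    · intro J t xs a hind hrel l hl
      rw [Ideal.mem_iInf]
      intro q
      rw [Ideal.mem_iInf]
      intro hq
      rw [Ideal.mem_comap]
      rcases Nat.eq_zero_or_pos q.2 with h0 | h0
      · rw [h0, pow_zero, Ideal.one_eq_top]; trivial
      · have hTT : (⊤ : (S' q.1).Opens) ≤ (g q.1) ⁻¹ᵁ ⊤ := fun _ _ => trivial
        have hloc' : ∀ a ∈ maximalIdeal Γ(S, ⊤),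
            (g q.1).appLE ⊤ ⊤ hTT a ∈ maximalIdeal Γ(S' q.1, ⊤) := by
          intro a ha
          rw [appLE_top_top]
          exact hloc q.1 a ha
        have := appLE_mem_of_relation (hc q.1) hTT hloc'
          (⨅ p ∈ s, Ideal.comap (g p.1).appTop.hom (maximalIdeal Γ(S' p.1, ⊤) ^ p.2))
          (maximalIdeal Γ(S' q.1, ⊤) ^ q.2) ?_ (Ideal.pow_le_self h0.ne') F hU hUT x hxU
          (hflat q.1) J t xs a hind hrel l hl
        · rw [appLE_top_top] at this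
          exact this
        · rw [Ideal.map_le_iff_le_comap, appLE_top_top]
          exact iInf₂_le q hq

end Groth.Agent.H3.ArtFlat
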