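import Mathlib
import Groth.Agent.Lib.Helper3.ArtFlat.Sch2

set_option autoImplicit false
universe u
open CategoryTheory Limits AlgebraicGeometry TopologicalSpace Opposite TensorProduct IsLocalRing

namespace Groth.Agent.H3.Prim

open Groth.Agent.LD.QC Groth.Agent.H1.SchFlat

/-- `k → K` is a primary extension: the elements of `K` separable over `k` lie in `k`. -/
def IsPrimaryHom {k K : Type*} [Field k] [Field K] (i : k →+* K) : Prop :=
  letI := i.toAlgebra
  ∀ a : K, IsSeparable k a → a ∈ i.range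

section
variable {k₁ K₁ k₂ K₂ : Type*} [Field k₁] [Field K₁] [Field k₂] [Field K₂]

/-- separability is preserved by a morphism of extensions. -/
lemma isSeparable_map (i₁ : k₁ →+* K₁) (i₂ : k₂ →+* K₂) (α : k₁ →+* k₂) (β : K₁ →+* K₂)
    (h : β.comp i₁ = i₂.comp α) (a : K₁)
    (ha : letI := i₁.toAlgebra; IsSeparable k₁ a) :
    letI := i₂.toAlgebra; IsSeparable k₂ (β a) := by
  letI := i₁.toAlgebra
  letI := i₂.toAlgebra
  have hint : IsIntegral k₁ a := ha.isIntegral
  have h0 : Polynomial.aeval (β a) ((minpoly k₁ a).map α) = 0 := by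
    rw [Polynomial.aeval_def, Polynomial.eval₂_map]
    have h1 : (algebraMap k₂ K₂).comp α = β.comp (algebraMap k₁ K₁) := h.symm
    rw [h1, ← Polynomial.hom_eval₂, ← Polynomial.aeval_def, minpoly.aeval, map_zero]
  have hdvd := minpoly.dvd k₂ (β a) h0
  have hsep : ((minpoly k₁ a).map α).Separable := Polynomial.Separable.map ha
  exact hsep.of_dvd hdvd

lemma isPrimaryHom_of_square (i₁ : k₁ →+* K₁) (i₂ : k₂ →+* K₂) (α : k₁ →+* k₂) (β : K₁ →+* K₂)
    (h : β.comp i₁ = i₂.comp α) (hα : Function.Surjective α) (h2 : IsPrimaryHom i₂) :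
    IsPrimaryHom i₁ := by
  intro a ha
  have h1 := isSeparable_map i₁ i₂ α β h a ha
  obtain ⟨c, hc⟩ := h2 (β a) h1
  obtain ⟨c', rfl⟩ := hα c
  refine ⟨c', ?_⟩
  apply β.injective
  have := congr($h c')
  exact this.trans hc

lemma isPrimaryHom_of_square' (i₁ : k₁ →+* K₁) (i₂ : k₂ →+* K₂) (α : k₁ →+* k₂) (β : K₁ →+* K₂)
    (h : β.comp i₁ = i₂.comp α) (hα : Function.Surjective α) (hβ : Function.Surjective β)
    (h1 : IsPrimaryHom i₁) : IsPrimaryHom i₂ := by
  let eα : k₁ ≃+* k₂ := RingEquiv.ofBijective α ⟨α.injective, hα⟩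
  let eβ : K₁ ≃+* K₂ := RingEquiv.ofBijective β ⟨β.injective, hβ⟩
  refine isPrimaryHom_of_square i₂ i₁ (eα.symm : k₂ →+* k₁) (eβ.symm : K₂ →+* K₁) ?_
    eα.symm.surjective h1
  ext c
  obtain ⟨c', rfl⟩ := hα c
  have h3 := congr($h c')
  change eβ.symm (i₂ (α c')) = i₁ (eα.symm (eα c'))
  rw [eα.symm_apply_apply]
  change β (i₁ c') = i₂ (α c') at h3
  rw [← h3]
  exact eβ.symm_apply_apply _

end

/-- the induced map on residue fields is surjective when the map is. -/
lemma residueField_map_surjective {A B : Type*} [CommRing A] [IsLocalRing A] [CommRing B]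
    [IsLocalRing B] (φ : A →+* B) [IsLocalHom φ] (hφ : Function.Surjective φ) :
    Function.Surjective (ResidueField.map φ) := by
  intro c
  obtain ⟨b, rfl⟩ := IsLocalRing.residue_surjective c
  obtain ⟨a, rfl⟩ := hφ b
  exact ⟨residue A a, rfl⟩


lemma isPrimaryHom_algebraMap_iff {k K : Type*} [Field k] [Field K] [inst : Algebra k K] :
    IsPrimaryHom (algebraMap k K) ↔
      ∀ a : K, IsSeparable k a → a ∈ (algebraMap k K).range := by
  have e : (algebraMap k K).toAlgebra = inst := Algebra.algebra_ext _ _ (fun _ => rfl)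
  unfold IsPrimaryHom
  rw [e]

section Chart
variable {X S : Scheme.{u}} (f : X ⟶ S) [IsAffine S] [IsLocalRing Γ(S, ⊤)]
  (x : X) (hxcl : IsClosed ({f x} : Set S)) {U : X.Opens} (hU : IsAffineOpen U)
  (hUT : U ≤ f ⁻¹ᵁ ⊤) (hxU : x ∈ U)

include hxcl in
lemma comap_primeIdealOf_eq_maximalIdeal :
    letI := algΓ f hUT
    (hU.primeIdealOf ⟨x, hxU⟩).asIdeal.comap (algebraMap Γ(S, ⊤) Γ(X, U)) =
      maximalIdeal Γ(S, ⊤) := by
  letI := algΓ f hUT
  have hV : IsAffineOpen (⊤ : S.Opens) := isAffineOpen_top S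
  have h1 := IsAffineOpen.comap_primeIdealOf_appLE (f := f) ⊤ hV U hU hUT hxU
  have h2 : (hV.primeIdealOf ⟨f x, hUT hxU⟩).asIdeal.IsMaximal :=
    hV.primeIdealOf_isMaximal_of_isClosed ⟨f x, hUT hxU⟩ hxcl
  have h3 := IsLocalRing.eq_maximalIdeal h2
  rw [← h3, ← h1]
  rfl

include hxcl in
lemma isLocalHom_algebraMap_localization :
    letI := algΓ f hUT
    IsLocalHom (algebraMap Γ(S, ⊤) (Localization.AtPrime (hU.primeIdealOf ⟨x, hxU⟩).asIdeal)) := by
  letI := algΓ f hUT
  have hpm := comap_primeIdealOf_eq_maximalIdeal f x hxcl hU hUT hxU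
  refine ⟨fun a ha => ?_⟩
  by_contra hna
  have h1 : a ∈ maximalIdeal Γ(S, ⊤) := hna
  rw [← hpm, Ideal.mem_comap] at h1
  have h2 : algebraMap Γ(X, U) (Localization.AtPrime (hU.primeIdealOf ⟨x, hxU⟩).asIdeal)
      (algebraMap Γ(S, ⊤) Γ(X, U) a) ∈
      maximalIdeal (Localization.AtPrime (hU.primeIdealOf ⟨x, hxU⟩).asIdeal) :=
    (IsLocalization.AtPrime.to_map_mem_maximal_iff _ (hU.primeIdealOf ⟨x, hxU⟩).asIdeal _).mpr h1
  rw [← IsScalarTower.algebraMap_apply] at h2
  exact h2 ha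

include hxcl in
lemma germ_top_bijective : Function.Bijective (S.presheaf.germ ⊤ (f x) trivial).hom := by
  have hV : IsAffineOpen (⊤ : S.Opens) := isAffineOpen_top S
  letI := S.presheaf.algebra_section_stalk (U := ⊤) ⟨f x, trivial⟩
  haveI := hV.isLocalization_stalk ⟨f x, trivial⟩
  have h2 : (hV.primeIdealOf ⟨f x, trivial⟩).asIdeal.IsMaximal :=
    hV.primeIdealOf_isMaximal_of_isClosed ⟨f x, trivial⟩ hxcl
  have h3 := IsLocalRing.eq_maximalIdeal h2
  have H : (hV.primeIdealOf ⟨f x, trivial⟩).asIdeal.primeCompl ≤ IsUnit.submonoid Γ(S, ⊤) := by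
    intro t ht
    by_contra hnu
    apply ht
    change t ∈ (hV.primeIdealOf ⟨f x, trivial⟩).asIdeal
    rw [h3]
    exact hnu
  exact (IsLocalization.atUnits Γ(S, ⊤) _ (S := S.presheaf.stalk (f x)) H).bijective

include hxcl in
theorem hprim_chart (hprim : IsPrimaryHom (f.residueFieldMap x).hom) :
    letI := algΓ f hUT
    haveI := isLocalHom_algebraMap_localization f x hxcl hU hUT hxU
    ∀ a : (hU.primeIdealOf ⟨x, hxU⟩).asIdeal.ResidueField,
      IsSeparable (ResidueField Γ(S, ⊤)) a →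
      a ∈ (algebraMap (ResidueField Γ(S, ⊤))
        (hU.primeIdealOf ⟨x, hxU⟩).asIdeal.ResidueField).range := by
  letI := algΓ f hUT
  haveI hL := isLocalHom_algebraMap_localization f x hxcl hU hUT hxU
  -- the stalk as a localization
  letI := X.presheaf.algebra_section_stalk (U := U) ⟨x, hxU⟩
  haveI := hU.isLocalization_stalk ⟨x, hxU⟩
  let b : Localization.AtPrime (hU.primeIdealOf ⟨x, hxU⟩).asIdeal ≃ₐ[Γ(X, U)] X.presheaf.stalk x :=
    IsLocalization.algEquiv (hU.primeIdealOf ⟨x, hxU⟩).asIdeal.primeCompl _ _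
  let β : (hU.primeIdealOf ⟨x, hxU⟩).asIdeal.ResidueField →+* X.residueField x :=
    ResidueField.map (b : Localization.AtPrime (hU.primeIdealOf ⟨x, hxU⟩).asIdeal →+*
      X.presheaf.stalk x)
  have hgb := germ_top_bijective f x hxcl
  haveI : IsLocalHom (S.presheaf.germ ⊤ (f x) trivial).hom :=
    IsLocalHom.of_surjective _ hgb.2
  let α : ResidueField Γ(S, ⊤) →+* S.residueField (f x) :=
    ResidueField.map (S.presheaf.germ ⊤ (f x) trivial).hom
  have hα : Function.Surjective α := residueField_map_surjective _ hgb.2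
  have hsq : β.comp (algebraMap (ResidueField Γ(S, ⊤))
      (hU.primeIdealOf ⟨x, hxU⟩).asIdeal.ResidueField) = (f.residueFieldMap x).hom.comp α := by
    ext c
    obtain ⟨a, rfl⟩ := IsLocalRing.residue_surjective c
    have l3 : b (algebraMap Γ(S, ⊤) (Localization.AtPrime (hU.primeIdealOf ⟨x, hxU⟩).asIdeal) a) =
        X.presheaf.germ U x hxU (f.appLE ⊤ U hUT a) := by
      rw [IsScalarTower.algebraMap_apply Γ(S, ⊤) Γ(X, U)
        (Localization.AtPrime (hU.primeIdealOf ⟨x, hxU⟩).asIdeal), b.commutes]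
      rfl
    have r3 : f.stalkMap x (S.presheaf.germ ⊤ (f x) trivial a) =
        X.presheaf.germ (f ⁻¹ᵁ ⊤) x trivial (f.app ⊤ a) :=
      Scheme.Hom.germ_stalkMap_apply f ⊤ x trivial a
    have r4 : X.presheaf.germ U x hxU (f.appLE ⊤ U hUT a) =
        X.presheaf.germ (f ⁻¹ᵁ ⊤) x trivial (f.app ⊤ a) := by
      rw [Scheme.Hom.appLE, CommRingCat.comp_apply, TopCat.Presheaf.germ_res_apply]
    change residue _ (b (algebraMap Γ(S, ⊤)
      (Localization.AtPrime (hU.primeIdealOf ⟨x, hxU⟩).asIdeal) a)) =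
      residue _ (f.stalkMap x (S.presheaf.germ ⊤ (f x) trivial a))
    rw [l3, r3, r4]
  have h1 := isPrimaryHom_of_square _ _ α β hsq hα hprim
  exact isPrimaryHom_algebraMap_iff.mp h1

end Chart

end Groth.Agent.H3.Prim
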