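import Groth.Agent.Lib.Helper3.ArtFlat.Main
import Groth.Agent.Lib.Helper1.SchFlat

set_option autoImplicit false
universe u
open CategoryTheory Limits AlgebraicGeometry TopologicalSpace Opposite TensorProduct IsLocalRing

namespace Groth.Agent.H3.ArtFlat

open Groth.Agent.LD.QC Groth.Agent.H1.SchFlat

section Charts
variable {X S X' S' : Scheme.{u}} {f : X ⟶ S} {f' : X' ⟶ S'} {g' : X' ⟶ X} {g : S' ⟶ S}

/-- affine chart of a fibre product over prescribed affine opens, with the pushout property. -/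
theorem pushout_chart (hc : IsPullback g' f' f g) {W : S.Opens} {W' : S'.Opens} {U : X.Opens}
    (hW : IsAffineOpen W) (hW' : IsAffineOpen W') (hU : IsAffineOpen U)
    (hW'W : W' ≤ g ⁻¹ᵁ W) (hUW : U ≤ f ⁻¹ᵁ W) :
    IsAffineOpen (g' ⁻¹ᵁ U ⊓ f' ⁻¹ᵁ W') ∧
      IsPushout (f.appLE W U hUW) (g.appLE W W' hW'W)
        (g'.appLE U (g' ⁻¹ᵁ U ⊓ f' ⁻¹ᵁ W') inf_le_left)
        (f'.appLE W' (g' ⁻¹ᵁ U ⊓ f' ⁻¹ᵁ W') inf_le_right) := by
  have hU' : IsAffineOpen (g' ⁻¹ᵁ U ⊓ f' ⁻¹ᵁ W') := by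
    haveI : IsAffine _ := hW
    haveI : IsAffine _ := hW'
    haveI : IsAffine _ := hU
    exact .of_isIso (Scheme.Hom.isPullback_resLE hc hW'W hUW rfl).isoPullback.hom
  have hpo := (isIso_pushoutSection_iff hc hW'W hUW rfl).mp
    (isIso_pushoutSection_of_isAffineOpen hc hW'W hUW rfl hW hW' hU)
  exact ⟨hU', hpo⟩

end Charts

section Points
variable {X : Scheme.{u}} {U : X.Opens}

theorem exists_point_of_prime (hU : IsAffineOpen U) (q : PrimeSpectrum Γ(X, U)) :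
    ∃ (x : X) (hx : x ∈ U), hU.primeIdealOf ⟨x, hx⟩ = q := by
  refine ⟨(hU.isoSpec.inv q).1, (hU.isoSpec.inv q).2, ?_⟩
  change hU.isoSpec.hom (hU.isoSpec.inv q) = q
  rw [← Scheme.Hom.comp_apply, Iso.inv_hom_id]
  rfl

theorem eq_of_primeIdealOf_eq (hU : IsAffineOpen U) {x y : X} (hx : x ∈ U) (hy : y ∈ U)
    (h : hU.primeIdealOf ⟨x, hx⟩ = hU.primeIdealOf ⟨y, hy⟩) : x = y := by
  have h1 := hU.fromSpec_primeIdealOf ⟨x, hx⟩
  have h2 := hU.fromSpec_primeIdealOf ⟨y, hy⟩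
  rw [h] at h1
  exact h1.symm.trans h2

theorem isClosed_singleton_of_isMaximal (X : Scheme.{u}) [IsAffine X] (x : X)
    (h : ((isAffineOpen_top X).primeIdealOf ⟨x, trivial⟩).asIdeal.IsMaximal) :
    IsClosed ({x} : Set X) := by
  have h1 : IsClosed ({(isAffineOpen_top X).primeIdealOf ⟨x, trivial⟩} :
      Set (PrimeSpectrum Γ(X, ⊤))) :=
    (PrimeSpectrum.isClosed_singleton_iff_isMaximal _).mpr h
  have hemb : Topology.IsClosedEmbedding (isAffineOpen_top X).fromSpec := by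
    refine ⟨(isAffineOpen_top X).fromSpec.isOpenEmbedding.toIsEmbedding, ?_⟩
    rw [IsAffineOpen.range_fromSpec]
    exact isClosed_univ
  have h2 := hemb.isClosedMap _ h1
  have h3 := (isAffineOpen_top X).fromSpec_primeIdealOf ⟨x, trivial⟩
  convert h2 using 1
  ext y
  constructor
  · intro hy
    rw [Set.mem_singleton_iff] at hy
    subst hy
    exact ⟨_, rfl, h3⟩
  · rintro ⟨z, hz, rfl⟩
    have hz' : z = (isAffineOpen_top X).primeIdealOf ⟨x, trivial⟩ := hz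
    rw [hz']
    exact h3

end Points

section SchKey
variable {X S X' S' : Scheme.{u}} {f : X ⟶ S} {f' : X' ⟶ S'} {g' : X' ⟶ X} {g : S' ⟶ S}

set_option maxHeartbeats 1600000 in
/-- **single test scheme, chart form**: over affine bases with local rings of global sections, an
`Γ(S)`-relation among elements of the stalk of `F` at `x` (presented as a localisation of sections
over an affine chart `U`) which are independent modulo the maximal ideal has coefficients dying in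
`Γ(S')`, provided the pullback of `F` is flat over `S'` at all points above `x` and a closed
point. -/
theorem appLE_eq_zero_of_relation (hc : IsPullback g' f' f g) [IsAffine S] [IsAffine S']
    [IsLocalRing Γ(S, ⊤)] [IsLocalRing Γ(S', ⊤)]
    (hTT : (⊤ : S'.Opens) ≤ g ⁻¹ᵁ ⊤)
    (hloc : ∀ a ∈ maximalIdeal Γ(S, ⊤), g.appLE ⊤ ⊤ hTT a ∈ maximalIdeal Γ(S', ⊤))
    (F : X.Modules) [F.IsQuasicoherent] {U : X.Opens} (hU : IsAffineOpen U)
    [IsNoetherianRing Γ(X, U)] [Module.Finite Γ(X, U) Γ(F, U)]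
    (hUT : U ≤ f ⁻¹ᵁ ⊤) (x : X) (hx : x ∈ U)
    (hflat : ∀ x' : X', g' x' = x → IsClosed ({f' x'} : Set S') →
      FlatMod.IsFlatOverAt f' ((Scheme.Modules.pullback g').obj F) x') :
    letI := algΓ f hUT
    letI := sectionsModuleOver f F hUT
    haveI := isScalarTower_sections f F hUT
    ∀ (J : Type u) (s : Finset J)
      (xs : J → LocalizedModule (hU.primeIdealOf ⟨x, hx⟩).asIdeal.primeCompl Γ(F, U))
      (a : J → Γ(S, ⊤)),
      (∀ b : J → Γ(S, ⊤), ∑ l ∈ s, b l • xs l ∈ maximalIdeal Γ(S, ⊤) •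
        (⊤ : Submodule Γ(S, ⊤)
          (LocalizedModule (hU.primeIdealOf ⟨x, hx⟩).asIdeal.primeCompl Γ(F, U))) →
        ∀ l ∈ s, b l ∈ maximalIdeal Γ(S, ⊤)) →
      ∑ l ∈ s, a l • xs l = 0 → ∀ l ∈ s, g.appLE ⊤ ⊤ hTT (a l) = 0 := by
  letI := algΓ f hUT
  letI := sectionsModuleOver f F hUT
  haveI := isScalarTower_sections f F hUT
  intro J s xs a hind hrel
  haveI := qc_pullback g' F
  have hW : IsAffineOpen (⊤ : S.Opens) := isAffineOpen_top S
  have hW' : IsAffineOpen (⊤ : S'.Opens) := isAffineOpen_top S'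
  obtain ⟨hU', hpo⟩ := pushout_chart hc hW hW' hU hTT hUT
  set U' : X'.Opens := g' ⁻¹ᵁ U ⊓ f' ⁻¹ᵁ ⊤ with hU'def
  have e1 : U' ≤ g' ⁻¹ᵁ U := inf_le_left
  have e2 : U' ≤ f' ⁻¹ᵁ ⊤ := inf_le_right
  -- ring structure
  letI aRR' : Algebra Γ(S, ⊤) Γ(S', ⊤) := (g.appLE ⊤ ⊤ hTT).hom.toAlgebra
  letI aR'T' : Algebra Γ(S', ⊤) Γ(X', U') := algΓ f' e2
  letI aTT' : Algebra Γ(X, U) Γ(X', U') := (g'.appLE U U' e1).hom.toAlgebra
  letI aRT' : Algebra Γ(S, ⊤) Γ(X', U') :=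
    ((g'.appLE U U' e1).hom.comp (f.appLE ⊤ U hUT).hom).toAlgebra
  haveI t1 : IsScalarTower Γ(S, ⊤) Γ(X, U) Γ(X', U') := IsScalarTower.of_algebraMap_eq fun _ => rfl
  haveI t2 : IsScalarTower Γ(S, ⊤) Γ(S', ⊤) Γ(X', U') := IsScalarTower.of_algebraMap_eq fun r => by
    have := congr($(hpo.w) r)
    exact this
  haveI hPO : Algebra.IsPushout Γ(S, ⊤) Γ(S', ⊤) Γ(X, U) Γ(X', U') :=
    CommRingCat.isPushout_iff_isPushout.mp hpo.flip
  -- modules
  set P := (Scheme.Modules.pullback g').obj F with hP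
  letI mTN' : Module Γ(X, U) Γ(P, U') := pbModule g' F e1
  haveI tTT'N' : IsScalarTower Γ(X, U) Γ(X', U') Γ(P, U') := pbModule_isScalarTower g' F e1
  letI mR'N' : Module Γ(S', ⊤) Γ(P, U') := sectionsModuleOver f' P e2
  haveI tR'T'N' : IsScalarTower Γ(S', ⊤) Γ(X', U') Γ(P, U') := isScalarTower_sections f' P e2
  have hσ : IsBaseChange Γ(X', U') (pbSecₗ g' F e1) := isBaseChange_pbSec g' hU' hU e1 F
  refine algebraMap_eq_zero_of_relation (A := Γ(S, ⊤)) (R := Γ(X, U)) (A' := Γ(S', ⊤))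
    (R' := Γ(X', U')) (hU.primeIdealOf ⟨x, hx⟩).asIdeal (pbSecₗ g' F e1) hσ hloc ?_ s xs a hind hrel
  intro q hqp hq1 hq2
  obtain ⟨x', hx', hx'q⟩ := exists_point_of_prime hU' ⟨q, hqp⟩
  have hqeq : (hU'.primeIdealOf ⟨x', hx'⟩).asIdeal = q := congrArg PrimeSpectrum.asIdeal hx'q
  -- the point lies over `x`
  have h1 : g' x' = x := by
    apply eq_of_primeIdealOf_eq hU (e1 hx') hx
    rw [← IsAffineOpen.comap_primeIdealOf_appLE (f := g') U hU U' hU' e1 hx']
    apply PrimeSpectrum.ext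
    change (hU'.primeIdealOf ⟨x', hx'⟩).asIdeal.comap (g'.appLE U U' e1).hom = _
    rw [hqeq]
    exact hq1
  -- and over a closed point
  have h2 : IsClosed ({f' x'} : Set S') := by
    apply isClosed_singleton_of_isMaximal
    have h3 : (hW'.primeIdealOf ⟨f' x', e2 hx'⟩).asIdeal = maximalIdeal Γ(S', ⊤) := by
      rw [← IsAffineOpen.comap_primeIdealOf_appLE (f := f') ⊤ hW' U' hU' e2 hx']
      change (hU'.primeIdealOf ⟨x', hx'⟩).asIdeal.comap (f'.appLE ⊤ U' e2).hom = _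
      rw [hqeq]
      exact hq2
    rw [h3]
    exact IsLocalRing.maximalIdeal.isMaximal _
  have h4 := (isFlatOverAt_iff_flat_localizedModule f' P hU' hW' e2 x' hx').mp (hflat x' h1 h2)
  subst hqeq
  exact h4

end SchKey

end Groth.Agent.H3.ArtFlat
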