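import Groth.Agent.Lib.Helper3.ArtFlat.One
import Groth.Agent.Lib.Helper3.ArtFlat.Prim
import Groth.Agent.Lib.Helper3.ArtFlat.Sch2

set_option autoImplicit false
universe u
open CategoryTheory Limits AlgebraicGeometry TopologicalSpace Opposite TensorProduct IsLocalRing

namespace Groth.Agent.H3.ArtFlat

open Groth.Agent.LD.QC Groth.Agent.H1.SchFlat Groth.Agent.H3.Prim

section SchKey3
variable {X S X' S' : Scheme.{u}} {f : X ⟶ S} {f' : X' ⟶ S'} {g' : X' ⟶ X} {g : S' ⟶ S}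

set_option maxHeartbeats 1600000 in
/-- **single test scheme, one flat point, chart form, relative version**. -/
theorem appLE_mem_of_relation_one (hc : IsPullback g' f' f g) [IsAffine S] [IsAffine S']
    [IsLocalRing Γ(S, ⊤)] [IsLocalRing Γ(S', ⊤)]
    (hTT : (⊤ : S'.Opens) ≤ g ⁻¹ᵁ ⊤)
    (hloc : ∀ a ∈ maximalIdeal Γ(S, ⊤), g.appLE ⊤ ⊤ hTT a ∈ maximalIdeal Γ(S', ⊤))
    (𝔞 : Ideal Γ(S, ⊤)) (𝔟 : Ideal Γ(S', ⊤)) (h𝔞𝔟 : 𝔞.map (g.appLE ⊤ ⊤ hTT).hom ≤ 𝔟)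
    (h𝔟 : 𝔟 ≤ maximalIdeal Γ(S', ⊤))
    (F : X.Modules) [F.IsQuasicoherent] {U : X.Opens} (hU : IsAffineOpen U)
    [IsNoetherianRing Γ(X, U)] [Module.Finite Γ(X, U) Γ(F, U)]
    (hUT : U ≤ f ⁻¹ᵁ ⊤) (x' : X') (hx : g' x' ∈ U)
    (hxcl : IsClosed ({f (g' x')} : Set S))
    (hprim : IsPrimaryHom (f.residueFieldMap (g' x')).hom)
    (hx'cl : IsClosed ({f' x'} : Set S'))
    (hflat : FlatMod.IsFlatOverAt f' ((Scheme.Modules.pullback g').obj F) x') :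
    letI := algΓ f hUT
    letI := sectionsModuleOver f F hUT
    haveI := isScalarTower_sections f F hUT
    ∀ (J : Type u) (s : Finset J)
      (xs : J → LocalizedModule (hU.primeIdealOf ⟨g' x', hx⟩).asIdeal.primeCompl Γ(F, U))
      (a : J → Γ(S, ⊤)),
      (∀ b : J → Γ(S, ⊤), ∑ l ∈ s, b l • xs l ∈ maximalIdeal Γ(S, ⊤) •
        (⊤ : Submodule Γ(S, ⊤)
          (LocalizedModule (hU.primeIdealOf ⟨g' x', hx⟩).asIdeal.primeCompl Γ(F, U))) →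
        ∀ l ∈ s, b l ∈ maximalIdeal Γ(S, ⊤)) →
      ∑ l ∈ s, a l • xs l ∈ 𝔞 • (⊤ : Submodule Γ(S, ⊤)
          (LocalizedModule (hU.primeIdealOf ⟨g' x', hx⟩).asIdeal.primeCompl Γ(F, U))) →
      ∀ l ∈ s, g.appLE ⊤ ⊤ hTT (a l) ∈ 𝔟 := by
  letI := algΓ f hUT
  letI := sectionsModuleOver f F hUT
  haveI := isScalarTower_sections f F hUT
  intro J s xs a hind hrel
  haveI := qc_pullback g' F
  have hW : IsAffineOpen (⊤ : S.Opens) := isAffineOpen_top S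
  have hW' : IsAffineOpen (⊤ : S'.Opens) := isAffineOpen_top S'
  obtain ⟨hU', hpo⟩ := pushout_chart hc hW hW' hU hTT hUT
  set U' : X'.Opens := g' ⁻¹ᵁ U ⊓ f' ⁻¹ᵁ ⊤ with hU'def
  have e1 : U' ≤ g' ⁻¹ᵁ U := inf_le_left
  have e2 : U' ≤ f' ⁻¹ᵁ ⊤ := inf_le_right
  have hx' : x' ∈ U' := ⟨hx, trivial⟩
  -- ring structure
  letI aRR' : Algebra Γ(S, ⊤) Γ(S', ⊤) := (g.appLE ⊤ ⊤ hTT).hom.toAlgebra
  letI aR'T' : Algebra Γ(S', ⊤) Γ(X', U') := algΓ f' e2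
  letI aTT' : Algebra Γ(X, U) Γ(X', U') := (g'.appLE U U' e1).hom.toAlgebra
  letI aRT' : Algebra Γ(S, ⊤) Γ(X', U') :=
    ((g'.appLE U U' e1).hom.comp (f.appLE ⊤ U hUT).hom).toAlgebra
  haveI t1 : IsScalarTower Γ(S, ⊤) Γ(X, U) Γ(X', U') := IsScalarTower.of_algebraMap_eq fun _ => rfl
  haveI t2 : IsScalarTower Γ(S, ⊤) Γ(S', ⊤) Γ(X', U') := IsScalarTower.of_algebraMap_eq fun r => by
    have := congr($(hpo.w) r)
    exact this
  haveI hPO : Algebra.IsPushout Γ(S, ⊤) Γ(S', ⊤) Γ(X, U) Γ(X', U') :=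
    CommRingCat.isPushout_iff_isPushout.mp hpo.flip
  -- modules
  set P := (Scheme.Modules.pullback g').obj F with hP
  letI mTN' : Module Γ(X, U) Γ(P, U') := pbModule g' F e1
  haveI tTT'N' : IsScalarTower Γ(X, U) Γ(X', U') Γ(P, U') := pbModule_isScalarTower g' F e1
  letI mR'N' : Module Γ(S', ⊤) Γ(P, U') := sectionsModuleOver f' P e2
  haveI tR'T'N' : IsScalarTower Γ(S', ⊤) Γ(X', U') Γ(P, U') := isScalarTower_sections f' P e2
  have hσ : IsBaseChange Γ(X', U') (pbSecₗ g' F e1) := isBaseChange_pbSec g' hU' hU e1 F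
  -- local homs
  haveI hL1 : IsLocalHom (algebraMap Γ(S, ⊤) Γ(S', ⊤)) := ⟨fun a ha => by
    by_contra hna
    have h1 := hloc a hna
    exact h1 ha⟩
  haveI hL2 := isLocalHom_algebraMap_localization f (g' x') hxcl hU hUT hx
  have hprim' := hprim_chart f (g' x') hxcl hU hUT hx hprim
  -- the prime
  have hq1 : (hU'.primeIdealOf ⟨x', hx'⟩).asIdeal.comap (algebraMap Γ(X, U) Γ(X', U')) =
      (hU.primeIdealOf ⟨g' x', hx⟩).asIdeal := by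
    have := IsAffineOpen.comap_primeIdealOf_appLE (f := g') U hU U' hU' e1 hx'
    exact congrArg PrimeSpectrum.asIdeal this
  have hq2 : (hU'.primeIdealOf ⟨x', hx'⟩).asIdeal.comap (algebraMap Γ(S', ⊤) Γ(X', U')) =
      maximalIdeal Γ(S', ⊤) :=
    comap_primeIdealOf_eq_maximalIdeal f' x' hx'cl hU' e2 hx'
  have h4 := (isFlatOverAt_iff_flat_localizedModule f' P hU' hW' e2 x' hx').mp hflat
  exact algebraMap_mem_of_relation_one (A := Γ(S, ⊤)) (R := Γ(X, U)) (A' := Γ(S', ⊤))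
    (R' := Γ(X', U')) (hU.primeIdealOf ⟨g' x', hx⟩).asIdeal (pbSecₗ g' F e1) hσ hprim' 𝔞 𝔟 h𝔞𝔟 h𝔟
    (hU'.primeIdealOf ⟨x', hx'⟩).asIdeal hq1 hq2 h4 s xs a hind hrel

end SchKey3

end Groth.Agent.H3.ArtFlat
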